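import Cfsg.Agent.Lib.Char.ConstantDrop.Proj
import Cfsg.Agent.Lib.Char.Basic

/-!
# The trace on the fixed space of a normalized subgroup
-/

set_option autoImplicit false
set_option linter.unusedSectionVars false

namespace Cfsg.Agent.Char.PSubTwo

open Cfsg
open scoped ComplexConjugate

universe u

variable {G : Type u} [Group G] [Fintype G]

/-- The average over a subgroup is a character of a subgroup normalizing it. -/
theorem avg_isCharacter {f : G → ℂ} (hf : IsCharacter G f) (R : Subgroup G) [Fintype R]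
    (H : Subgroup G) (hH : H ≤ Subgroup.normalizer (R : Set G)) :
    IsCharacter H fun h : H => (Nat.card R : ℂ)⁻¹ * ∑ a : R, f ((h : G) * a) := by
  obtain ⟨n, ρ, rfl⟩ := hf
  have h := ConstDrop.proj_char ρ (ConstDrop.avgE ρ R) (ConstDrop.avgE_sq ρ R) H
    fun h hh => ConstDrop.avgE_comm ρ R (hH hh)
  exact (funext fun h : H => (ConstDrop.trace_mul_avgE ρ (h : G) R).symm) ▸ h

/-- An element normalizing `R` and conjugate to all its translates has trace at most the fixed dimension. -/
theorem norm_le_avg {f : G → ℂ} (hf : IsCharacter G f) (R : Subgroup G) [Fintype R] {u : G}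
    (hu : u ∈ Subgroup.normalizer (R : Set G)) (hc : ∀ a : R, f (u * a) = f u) :
    ‖f u‖ ≤ ((Nat.card R : ℂ)⁻¹ * ∑ a : R, f (a : G)).re := by
  haveI := Fintype.ofFinite (Subgroup.zpowers u)
  have h := char_norm_le (avg_isCharacter hf R (Subgroup.zpowers u) (Subgroup.zpowers_le.mpr hu))
    ⟨u, Subgroup.mem_zpowers u⟩
  simp only [hc, Finset.sum_const, Finset.card_univ, nsmul_eq_mul, ← Nat.card_eq_fintype_card,
    OneMemClass.coe_one, one_mul] at h
  rwa [← mul_assoc, inv_mul_cancel₀ (Nat.cast_ne_zero.mpr Nat.card_pos.ne'), one_mul] at h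

/-- With a fixed line the trace does not vanish. -/
theorem ne_zero_of_avg_one {f : G → ℂ} (hf : IsCharacter G f) (R : Subgroup G) [Fintype R] {u : G}
    (hu : u ∈ Subgroup.normalizer (R : Set G)) (hc : ∀ a : R, f (u * a) = f u)
    (h1 : (Nat.card R : ℂ)⁻¹ * ∑ a : R, f (a : G) = 1) : f u ≠ 0 := by
  haveI := Fintype.ofFinite (Subgroup.zpowers u)
  obtain ⟨n, σ, hσ⟩ := avg_isCharacter hf R (Subgroup.zpowers u) (Subgroup.zpowers_le.mpr hu)
  have hn : n = 1 := by
    have h2 := congrFun hσ 1
    simp only [Representation.char_one, Module.finrank_fin_fun, OneMemClass.coe_one, one_mul, h1] at h2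
    exact_mod_cast h2
  subst hn
  obtain ⟨μ, hμ, htr, -⟩ := exists_eigenvalues σ ⟨u, Subgroup.mem_zpowers u⟩
  have h2 := htr 1
  rw [pow_one, hσ] at h2
  simp only [hc, Finset.sum_const, Finset.card_univ, nsmul_eq_mul, ← Nat.card_eq_fintype_card,
    pow_one] at h2
  rw [← mul_assoc, inv_mul_cancel₀ (Nat.cast_ne_zero.mpr Nat.card_pos.ne'), one_mul] at h2
  intro h0
  haveI : Unique (Fin (Module.finrank ℂ (Fin 1 → ℂ))) := by
    rw [Module.finrank_fin_fun]; infer_instance
  rw [h0, Fintype.sum_unique] at h2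
  have h3 := hμ default
  rw [← h2, zero_pow (orderOf_pos _).ne'] at h3
  exact zero_ne_one h3

end Cfsg.Agent.Char.PSubTwo
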