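import Cfsg.Agent.Lib.Char.PSubTwo.Local
import Cfsg.Agent.Lib.Char.PSubTwo.Fixed
import Cfsg.Agent.Lib.Char.FrobSylowExceptional

/-!
# Faithful degree `p - 2`: elementary consequences of the local structure
-/

set_option autoImplicit false
set_option linter.unusedSectionVars false
set_option linter.style.haveILetI false

open Cfsg
open scoped ComplexConjugate

namespace Cfsg.Agent.Char.PSubTwo

universe u

variable {G : Type u} [Group G] [Fintype G] {p : ℕ} [Fact p.Prime]

/-- The central character. -/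
noncomputable def cw (ξ : IrrCharacter G) (z : G) : ℂ := (ξ : G → ℂ) z / (ξ : G → ℂ) 1

theorem cw_one (ξ : IrrCharacter G) : cw ξ 1 = 1 := div_self (irr_one_ne_zero ξ.2)

theorem cw_mul_apply (ξ : IrrCharacter G) {z : G} (hz : z ∈ Subgroup.center G) (c : G) :
    (ξ : G → ℂ) (z * c) = cw ξ z * (ξ : G → ℂ) c := by
  obtain ⟨ζ, -, hζ⟩ := exists_central_root (fun k => (Subgroup.mem_center_iff.mp hz k).symm) ξ
  have h1 := hζ 1
  rw [mul_one] at h1
  rw [cw, h1, mul_div_cancel_right₀ _ (irr_one_ne_zero ξ.2), hζ]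

theorem cw_apply_mul (ξ : IrrCharacter G) {z : G} (hz : z ∈ Subgroup.center G) (c : G) :
    (ξ : G → ℂ) (c * z) = cw ξ z * (ξ : G → ℂ) c := by
  rw [Subgroup.mem_center_iff.mp hz c, cw_mul_apply ξ hz]

theorem cw_mul (ξ : IrrCharacter G) {z : G} (hz : z ∈ Subgroup.center G) (w : G) :
    cw ξ (z * w) = cw ξ z * cw ξ w := by
  simp only [cw]
  rw [cw_mul_apply ξ hz, cw, mul_div_assoc]

theorem cw_inv (ξ : IrrCharacter G) (z : G) : cw ξ z⁻¹ = conj (cw ξ z) := by
  obtain ⟨d, hd⟩ := charOne_eq_natCast (irr_isCharacter ξ.2)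
  rw [cw, cw, char_inv (irr_isCharacter ξ.2), map_div₀, hd, map_natCast]

theorem cw_mul_conj (ξ : IrrCharacter G) {z : G} (hz : z ∈ Subgroup.center G) :
    cw ξ z * conj (cw ξ z) = 1 := by
  rw [← cw_inv, ← cw_mul ξ hz, mul_inv_cancel, cw_one]

theorem cw_normSq (ξ : IrrCharacter G) {z : G} (hz : z ∈ Subgroup.center G) :
    Complex.normSq (cw ξ z) = 1 := by
  have h := cw_mul_conj ξ hz
  rw [Complex.mul_conj] at h
  exact_mod_cast h

variable {P : Sylow p G} {χ : IrrCharacter G} (h : Ctx P χ)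
include h

theorem Ctx.frob : FrobSylow P 2 := h.index ▸ frobSylow_of_prime h.card

theorem Ctx.pow_p (y : ↥(P : Subgroup G)) : (y : G) ^ p = 1 := by
  have h1 := pow_card_eq_one' (x := y)
  rw [h.card] at h1
  exact congrArg Subtype.val h1

theorem Ctx.orderOf_eq {y : ↥(P : Subgroup G)} (hy : (y : G) ≠ 1) : orderOf (y : G) = p :=
  orderOf_eq_prime (h.pow_p y) hy

theorem Ctx.comm {a b : G} (ha : a ∈ (P : Subgroup G)) (hb : b ∈ (P : Subgroup G)) :
    a * b = b * a :=
  (h.frob.le_centralizer ha b hb).symm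

theorem Ctx.cent_eq {y : ↥(P : Subgroup G)} (hy : (y : G) ≠ 1) :
    Subgroup.centralizer ({(y : G)} : Set G) = Subgroup.centralizer ((P : Subgroup G) : Set G) := by
  rw [← centralizer_zpowers_eq, eq_zpowers_of_prime_sylow h.card y.2 hy]

theorem Ctx.exists_nonOne : ∃ y : ↥(P : Subgroup G), (y : G) ≠ 1 := by
  haveI : Nontrivial ↥(P : Subgroup G) :=
    Finite.one_lt_card_iff_nontrivial.mp (h.card.symm ▸ (Fact.out : p.Prime).one_lt)
  obtain ⟨y, hy⟩ := exists_ne (1 : ↥(P : Subgroup G))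
  exact ⟨y, fun e => hy (Subtype.ext e)⟩

/-- A central element has order prime to `p`. -/
theorem Ctx.center_reg {z : G} (hz : z ∈ Subgroup.center G) : ¬ p ∣ orderOf z := by
  intro hd
  have hp : p.Prime := Fact.out
  set w := z ^ (orderOf z / p) with hw
  have hwo : orderOf w = p := by
    rw [hw, orderOf_pow_of_dvd (fun h0 => by
      have := Nat.eq_zero_of_dvd_of_div_eq_zero hd h0
      exact (orderOf_pos z).ne' this) (Nat.div_dvd_of_dvd hd),
      Nat.div_div_self hd (orderOf_pos z).ne']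
  have hwz : w ∈ Subgroup.center G := pow_mem hz _
  obtain ⟨Q, hQ⟩ := (IsPGroup.of_card (n := 1) (by rw [Nat.card_zpowers, hwo, pow_one]) :
    IsPGroup p (Subgroup.zpowers w)).exists_le_sylow
  obtain ⟨c, hc⟩ := MulAction.exists_smul_eq G Q P
  have hwP : w ∈ (P : Subgroup G) := by
    rw [← hc, Sylow.coe_subgroup_smul]
    refine ⟨w, hQ (Subgroup.mem_zpowers w), ?_⟩
    show c * w * c⁻¹ = w
    rw [Subgroup.mem_center_iff.mp hwz c, mul_inv_cancel_right]
  have hPZ : (P : Subgroup G) ≤ Subgroup.center G := by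
    rw [← eq_zpowers_of_prime_sylow h.card hwP (fun e => by
      rw [e, orderOf_one] at hwo; exact hp.ne_one hwo.symm), Subgroup.zpowers_le]
    exact hwz
  exact h.not_normal ⟨fun a ha g => by
    have h2 := Subgroup.mem_center_iff.mp (hPZ ha) g
    rwa [h2, mul_inv_cancel_right]⟩

theorem Ctx.center_le_centralizer {z : G} (hz : z ∈ Subgroup.center G) :
    z ∈ Subgroup.centralizer ((P : Subgroup G) : Set G) :=
  fun a _ => Subgroup.mem_center_iff.mp hz a

/-- The centralizer of `P` is `P` times the centre. -/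
theorem Ctx.decomp {c : G} (hc : c ∈ Subgroup.centralizer ((P : Subgroup G) : Set G)) :
    ∃ y ∈ (P : Subgroup G), ∃ z ∈ Subgroup.center G, c = y * z := by
  have hp : p.Prime := Fact.out
  obtain ⟨hpp, hreg, hcm⟩ := preg_spec hp c
  obtain ⟨w, -, -, ⟨k, hk⟩, -⟩ := hpp
  have hprC : preg p c ∈ Subgroup.centralizer ((P : Subgroup G) : Set G) := by
    intro a ha
    have h2 := preg_conj hp c a
    rw [hc a ha, mul_inv_cancel_right] at h2
    exact (mul_inv_eq_iff_eq_mul.mp h2.symm)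
  have hy : c * (preg p c)⁻¹ ∈ (P : Subgroup G) := by
    have hyC : c * (preg p c)⁻¹ ∈ Subgroup.centralizer ((P : Subgroup G) : Set G) :=
      mul_mem hc (inv_mem hprC)
    have hpg : IsPGroup p ((P : Subgroup G) ⊔ Subgroup.zpowers (c * (preg p c)⁻¹) : Subgroup G) :=
      IsPGroup.to_sup_of_normal_left' P.isPGroup'
        (IsPGroup.of_card (n := k) (by rw [Nat.card_zpowers, hk]))
        (Subgroup.zpowers_le.mpr (Subgroup.centralizer_le_normalizer _ hyC))
    exact (P.3 hpg le_sup_left) ▸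
      (le_sup_right : Subgroup.zpowers _ ≤ (P : Subgroup G) ⊔ _) (Subgroup.mem_zpowers _)
  exact ⟨_, hy, preg p c, h.central _ hprC hreg, (inv_mul_cancel_right c _).symm⟩

theorem Ctx.exists_outside :
    ∃ u ∈ Subgroup.normalizer ((P : Subgroup G) : Set G),
      u ∉ Subgroup.centralizer ((P : Subgroup G) : Set G) := by
  by_contra hno
  push Not at hno
  have := h.index
  rw [Subgroup.relIndex_eq_one.mpr hno] at this
  omega

theorem Ctx.mul_mem_iff {a b : G} (ha : a ∈ Subgroup.normalizer ((P : Subgroup G) : Set G))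
    (hb : b ∈ Subgroup.normalizer ((P : Subgroup G) : Set G)) :
    a * b ∈ Subgroup.centralizer ((P : Subgroup G) : Set G) ↔
      (a ∈ Subgroup.centralizer ((P : Subgroup G) : Set G) ↔
        b ∈ Subgroup.centralizer ((P : Subgroup G) : Set G)) :=
  Subgroup.mul_mem_iff_of_index_two (H := (Subgroup.centralizer ((P : Subgroup G) : Set G)).subgroupOf
    (Subgroup.normalizer ((P : Subgroup G) : Set G))) h.index (a := ⟨a, ha⟩) (b := ⟨b, hb⟩)

/-- The elements outside the centralizer invert `P`. -/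
theorem Ctx.inv {u : G} (hu : u ∈ Subgroup.normalizer ((P : Subgroup G) : Set G))
    (hu' : u ∉ Subgroup.centralizer ((P : Subgroup G) : Set G)) {y : G}
    (hy : y ∈ (P : Subgroup G)) : u * y * u⁻¹ = y⁻¹ := by
  set y' := u * y * u⁻¹ with hy'
  have hy'P : y' ∈ (P : Subgroup G) := FrobSylow.conj_mem hu hy
  have huu : u * u ∈ Subgroup.centralizer ((P : Subgroup G) : Set G) :=
    (h.mul_mem_iff hu hu).mpr Iff.rfl
  have h2 : u * y' * u⁻¹ = y := by
    rw [hy', show u * (u * y * u⁻¹) * u⁻¹ = (u * u) * y * (u * u)⁻¹ by group, ← huu y hy,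
      mul_inv_cancel_right]
  by_contra hne
  have hw : u * (y * y') * u⁻¹ = y * y' := by
    rw [show u * (y * y') * u⁻¹ = (u * y * u⁻¹) * (u * y' * u⁻¹) by group, ← hy', h2,
      h.comm hy'P hy]
  exact hu' (h.frob.mem_centralizer_of_conj_eq (y := ⟨y * y', mul_mem hy hy'P⟩) hu
    (fun e => hne (eq_inv_of_mul_eq_one_right e)) hw)

theorem Ctx.mul_self_mem_center {u : G} (hu : u ∈ Subgroup.normalizer ((P : Subgroup G) : Set G))
    (hu' : u ∉ Subgroup.centralizer ((P : Subgroup G) : Set G)) : u * u ∈ Subgroup.center G := by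
  obtain ⟨y, hy, z, hz, e⟩ := h.decomp ((h.mul_mem_iff hu hu).mpr Iff.rfl)
  have h1 : u * (u * u) * u⁻¹ = u * u := by group
  rw [e, show u * (y * z) * u⁻¹ = (u * y * u⁻¹) * (u * z * u⁻¹) by group, h.inv hu hu' hy,
    Subgroup.mem_center_iff.mp hz u, mul_inv_cancel_right, mul_left_inj] at h1
  have h2 : y ^ 2 = 1 := by
    have e2 := inv_mul_cancel y
    rw [h1] at e2
    rwa [pow_two]
  have hy1 : y = 1 := by
    by_contra hne
    have h3 : orderOf y ∣ 2 := orderOf_dvd_of_pow_eq_one h2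
    rw [h.orderOf_eq (y := ⟨y, hy⟩) hne] at h3
    have := Nat.le_of_dvd two_pos h3
    have := h.five
    omega
  rwa [e, hy1, one_mul]

theorem Ctx.out_reg {u : G} (hu : u ∈ Subgroup.normalizer ((P : Subgroup G) : Set G))
    (hu' : u ∉ Subgroup.centralizer ((P : Subgroup G) : Set G)) : ¬ p ∣ orderOf u := by
  intro hd
  have h1 : orderOf u ∣ 2 * orderOf (u * u) :=
    orderOf_dvd_of_pow_eq_one (G := G) (by rw [pow_mul, pow_two, pow_orderOf_eq_one])
  rcases (Fact.out : p.Prime).dvd_mul.mp (hd.trans h1) with h2 | h2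
  · have := Nat.le_of_dvd two_pos h2
    have := h.five
    omega
  · exact h.center_reg (h.mul_self_mem_center hu hu') h2

/-- Every translate of an inverting element by `P` is conjugate to it. -/
theorem Ctx.conj_translate {u : G} (hu : u ∈ Subgroup.normalizer ((P : Subgroup G) : Set G))
    (hu' : u ∉ Subgroup.centralizer ((P : Subgroup G) : Set G)) {y : G}
    (hy : y ∈ (P : Subgroup G)) : IsConj u (u * y) := by
  obtain ⟨t, ht⟩ : ∃ t : ℕ, 2 * t = p + 1 := by
    obtain ⟨k, hk⟩ := (Fact.out : p.Prime).odd_of_ne_two (by have := h.five; omega)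
    exact ⟨k + 1, by omega⟩
  set b := y ^ t with hb
  have hbb : b * b = y := by
    rw [hb, ← pow_add, ← two_mul, ht, pow_succ, h.pow_p ⟨y, hy⟩, one_mul]
  refine isConj_iff.mpr ⟨b⁻¹, ?_⟩
  have h1 := h.inv hu hu' (pow_mem hy t : b ∈ (P : Subgroup G))
  rw [inv_inv, show b⁻¹ * u * b = (u * b * u⁻¹) * u * b by rw [h1],
    show u * b * u⁻¹ * u * b = u * (b * b) by group, hbb]

theorem Ctx.apply_translate (ξ : IrrCharacter G) {u : G}
    (hu : u ∈ Subgroup.normalizer ((P : Subgroup G) : Set G))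
    (hu' : u ∉ Subgroup.centralizer ((P : Subgroup G) : Set G)) (y : ↥(P : Subgroup G)) :
    (ξ : G → ℂ) (u * y) = (ξ : G → ℂ) u := by
  obtain ⟨c, hc⟩ := isConj_iff.mp (h.conj_translate hu hu' y.2)
  rw [← hc, isClassFunction_character (irr_isCharacter ξ.2)]

/-- Characters are even on `P`. -/
theorem Ctx.apply_inv (ξ : IrrCharacter G) (y : ↥(P : Subgroup G)) :
    (ξ : G → ℂ) ((y : G)⁻¹) = (ξ : G → ℂ) y := by
  obtain ⟨u, hu, hu'⟩ := h.exists_outside
  rw [← h.inv hu hu' y.2, isClassFunction_character (irr_isCharacter ξ.2)]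

theorem Ctx.conj_apply (ξ : IrrCharacter G) (y : ↥(P : Subgroup G)) :
    conj ((ξ : G → ℂ) y) = (ξ : G → ℂ) y := by
  rw [← char_inv (irr_isCharacter ξ.2), h.apply_inv]

/-- The value on a section. -/
theorem Ctx.apply_section (ξ : IrrCharacter G) {y : ↥(P : Subgroup G)} (hy : (y : G) ≠ 1)
    (v : Subgroup.centralizer ({(y : G)} : Set G)) (hv : ¬ p ∣ orderOf v) :
    (v : G) ∈ Subgroup.center G ∧ (ξ : G → ℂ) ((y : G) * v) = cw ξ v * (ξ : G → ℂ) y := by
  have hz : (v : G) ∈ Subgroup.center G :=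
    h.central _ (h.cent_eq hy ▸ v.2) (by rwa [Subgroup.orderOf_coe])
  exact ⟨hz, cw_apply_mul ξ hz _⟩

theorem Ctx.faith_center {z : G} (hz : cw χ z = 1) : z = 1 :=
  h.faith z (by rwa [cw, div_eq_one_iff_eq (irr_one_ne_zero χ.2)] at hz)

end Cfsg.Agent.Char.PSubTwo
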