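import Cfsg.Agent.Lib.Char.PSubTwo.Values
import Cfsg.Agent.Lib.Char.GTwoSpectrum.PairCount

/-!
# Faithful degree `p - 2`: sums lvl the characters with given central character
-/

set_option autoImplicit false
set_option linter.unusedSectionVars false
set_option linter.style.haveILetI false

open Cfsg
open scoped ComplexConjugate Classical

namespace Cfsg.Agent.Char.PSubTwo

universe u

variable {G : Type u} [Group G] [Fintype G] {p : ℕ} [Fact p.Prime]

/-- The characters with the central character of `ξ₀`. -/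
noncomputable def lvl (ξ₀ : IrrCharacter G) : Finset (IrrCharacter G) :=
  Finset.univ.filter fun ξ => ∀ z ∈ Subgroup.center G, cw ξ z = cw ξ₀ z

theorem mem_lvl {ξ₀ ξ : IrrCharacter G} :
    ξ ∈ lvl ξ₀ ↔ ∀ z ∈ Subgroup.center G, cw ξ z = cw ξ₀ z := by simp [lvl]

/-- Fourier inversion on the centre. -/
theorem sum_lvl (T : IrrCharacter G → ℂ)
    (hT : ∀ z ∈ Subgroup.center G, z ≠ 1 → ∑ ξ : IrrCharacter G, conj (cw ξ z) * T ξ = 0)
    (ξ₀ : IrrCharacter G) :
    (Nat.card (Subgroup.center G) : ℂ) * ∑ ξ ∈ lvl ξ₀, T ξ = ∑ ξ : IrrCharacter G, T ξ := by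
  have h1 : ∑ z : Subgroup.center G, cw ξ₀ z * ∑ ξ : IrrCharacter G, conj (cw ξ z) * T ξ =
      ∑ ξ : IrrCharacter G, T ξ := by
    rw [Finset.sum_eq_single (1 : Subgroup.center G)]
    · simp [cw_one]
    · intro z _ hz
      rw [hT z z.2 (fun e => hz (Subtype.ext e)), mul_zero]
    · simp
  rw [← h1, Finset.mul_sum]
  simp only [Finset.mul_sum]
  rw [Finset.sum_comm, lvl, Finset.sum_filter]
  refine Finset.sum_congr rfl fun ξ _ => ?_
  simp only [← mul_assoc, ← Finset.sum_mul]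
  split_ifs with hξ
  · rw [Finset.sum_congr rfl fun (z : Subgroup.center G) _ => by
      rw [hξ z z.2, cw_mul_conj ξ₀ z.2], Finset.sum_const, Finset.card_univ,
      ← Nat.card_eq_fintype_card, nsmul_eq_mul, mul_one]
  · push Not at hξ
    obtain ⟨z₀, hz₀, hne⟩ := hξ
    set s := ∑ z : Subgroup.center G, cw ξ₀ z * conj (cw ξ z) with hs
    have hshift : (cw ξ₀ z₀ * conj (cw ξ z₀)) * s = s := by
      rw [hs, Finset.mul_sum]
      refine Fintype.sum_equiv (Equiv.mulLeft (⟨z₀, hz₀⟩ : Subgroup.center G)) _ _ fun z => ?_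
      simp only [Equiv.coe_mulLeft, Subgroup.coe_mul, cw_mul _ hz₀, map_mul]
      ring
    have h2 : cw ξ₀ z₀ * conj (cw ξ z₀) ≠ 1 := fun e => hne (by
      have := cw_mul_conj ξ hz₀
      calc cw ξ z₀ = cw ξ z₀ * (cw ξ₀ z₀ * conj (cw ξ z₀)) := by rw [e, mul_one]
        _ = cw ξ₀ z₀ * (cw ξ z₀ * conj (cw ξ z₀)) := by ring
        _ = cw ξ₀ z₀ := by rw [this, mul_one])
    have h3 : (cw ξ₀ z₀ * conj (cw ξ z₀) - 1) * s = 0 := by rw [sub_mul, hshift, one_mul, sub_self]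
    rw [(mul_eq_zero.mp h3).resolve_left (sub_ne_zero.mpr h2), zero_mul]

theorem conj_cw_mul (ξ : IrrCharacter G) {z : G} (hz : z ∈ Subgroup.center G) (g : G) :
    conj (cw ξ z) * (ξ : G → ℂ) g = (ξ : G → ℂ) (z⁻¹ * g) := by
  rw [cw_mul_apply ξ (inv_mem hz), cw_inv]

/-- No product of two conjugates gives zero in the class algebra. -/
theorem sum_triple_eq_zero (a b c : G)
    (h : ∀ g g' : G, IsConj a g → IsConj b g' → g * g' ≠ c) :
    ∑ ξ : IrrCharacter G,
      (ξ : G → ℂ) a * (ξ : G → ℂ) b * conj ((ξ : G → ℂ) c) / (ξ : G → ℂ) 1 = 0 := by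
  set F : G → ℂ := conv (classInd a) (classInd b) with hF
  have hclF : IsClassFunction G F :=
    isClassFunction_conv (GTwoSpectrum.classInd_class a) (GTwoSpectrum.classInd_class b)
  have hlam : ∀ (s : G) (ξ : IrrCharacter G), lam (ξ : G → ℂ) (classInd s) =
      (Nat.card {x : G // IsConj s x} : ℂ) * (ξ : G → ℂ) s / (ξ : G → ℂ) 1 := fun s ξ => by
    rw [lam]
    simp only [classInd, ite_mul, one_mul, zero_mul, ← Finset.sum_filter]
    rw [Finset.sum_congr rfl (g := fun _ => (ξ : G → ℂ) s) fun x hx => ?_, Finset.sum_const,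
      nsmul_eq_mul, Nat.card_eq_fintype_card, Fintype.card_subtype]
    obtain ⟨k, rfl⟩ := isConj_iff.mp (Finset.mem_filter.mp hx).2
    rw [isClassFunction_character (irr_isCharacter ξ.2)]
  have hreal : ∀ g, conj (F g) = F g := fun g => by
    simp only [hF, conv, map_sum, map_mul, classInd, apply_ite conj, map_one, map_zero]
  set k : ℂ := (Nat.card G : ℂ)⁻¹ *
    ((Nat.card {x : G // IsConj a x} : ℂ) * (Nat.card {x : G // IsConj b x} : ℂ)) with hk
  have hin : ∀ ξ : IrrCharacter G, classInner F (ξ : G → ℂ) =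
      k * conj ((ξ : G → ℂ) a * (ξ : G → ℂ) b / (ξ : G → ℂ) 1) := fun ξ => by
    have h1 : lam (ξ : G → ℂ) F = _ :=
      (lam_conv ξ.2 (GTwoSpectrum.classInd_class a) (GTwoSpectrum.classInd_class b)).trans
        (congrArg₂ (· * ·) (hlam a ξ) (hlam b ξ))
    rw [lam, div_eq_iff (irr_one_ne_zero ξ.2)] at h1
    have h2 : ∑ g : G, F g * conj ((ξ : G → ℂ) g) = conj (∑ g : G, F g * (ξ : G → ℂ) g) := by
      rw [map_sum]
      simp only [map_mul, hreal]
    rw [classInner, h2, h1, char_one_eq_deg (irr_isCharacter ξ.2), hk]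
    simp only [map_mul, map_div₀, map_natCast]
    have : (deg (ξ : G → ℂ) : ℂ) ≠ 0 := Nat.cast_ne_zero.mpr (deg_pos ξ.2).ne'
    field_simp
  have hFc : F c = 0 := by
    simp only [hF, conv, classInd]
    refine Finset.sum_eq_zero fun y _ => ?_
    by_cases h1 : IsConj a y
    · rw [if_neg fun h2 => h y _ h1 h2 (mul_inv_cancel_left y c), mul_zero]
    · rw [if_neg h1, zero_mul]
  have h6 : F c = ∑ ξ : IrrCharacter G, classInner F (ξ : G → ℂ) * (ξ : G → ℂ) c := by
    conv_lhs => rw [classFun_expansion hclF]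
    simp [Finset.sum_apply]
  rw [hFc] at h6
  simp only [hin, mul_assoc, ← Finset.mul_sum] at h6
  have hk0 : k ≠ 0 := mul_ne_zero (inv_ne_zero (Nat.cast_ne_zero.mpr Nat.card_pos.ne'))
    (mul_ne_zero (Nat.cast_ne_zero.mpr (card_conjClass_ne_zero a))
      (Nat.cast_ne_zero.mpr (card_conjClass_ne_zero b)))
  have h7 := congrArg conj ((mul_eq_zero.mp h6.symm).resolve_left hk0)
  rw [map_sum, map_zero] at h7
  rw [← h7]
  refine Finset.sum_congr rfl fun ξ _ => ?_
  rw [map_mul, Complex.conj_conj]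
  ring

variable {P : Sylow p G} {χ : IrrCharacter G} (h : Ctx P χ)
include h

theorem Ctx.preg_mul {y : ↥(P : Subgroup G)} {z : G} (hz : z ∈ Subgroup.center G) :
    preg p ((y : G) * z) = z :=
  preg_of_mul Fact.out (Subgroup.mem_center_iff.mp hz _) (FrobSylow.ppower y) (h.center_reg hz)

theorem Ctx.card_centralizer {y : ↥(P : Subgroup G)} (hy : (y : G) ≠ 1) :
    Nat.card (Subgroup.centralizer ({(y : G)} : Set G)) = p * Nat.card (Subgroup.center G) := by
  have h1 := h.frob.card_regular hy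
  rw [← h1, h.card, mul_comm]
  congr 1
  rw [Nat.card_eq_fintype_card, ← Finset.card_univ]
  refine Finset.card_bij'
    (fun v hv => ⟨(v : G), (h.apply_section χ hy v (Finset.mem_filter.mp hv).2).1⟩)
    (fun z _ => ⟨(z : G), h.cent_eq hy ▸ h.center_le_centralizer z.2⟩) (fun _ _ => Finset.mem_univ _)
    (fun z _ => Finset.mem_filter.mpr ⟨Finset.mem_univ _, by
      rw [← Subgroup.orderOf_coe]; exact h.center_reg z.2⟩) (fun _ _ => rfl) (fun _ _ => rfl)

/-- The norm of a column. -/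
theorem Ctx.lvl_norm (ξ₀ : IrrCharacter G) {y : ↥(P : Subgroup G)} (hy : (y : G) ≠ 1) :
    ∑ ξ ∈ lvl ξ₀, (ξ : G → ℂ) y * conj ((ξ : G → ℂ) y) = (p : ℂ) := by
  have hp : p.Prime := Fact.out
  have hZ : (Nat.card (Subgroup.center G) : ℂ) ≠ 0 := Nat.cast_ne_zero.mpr Nat.card_pos.ne'
  refine mul_left_cancel₀ hZ ?_
  rw [sum_lvl (fun ξ => (ξ : G → ℂ) y * conj ((ξ : G → ℂ) y)) ?_ ξ₀, DefectOne.sum_char_conj]
  · rw [← Nat.cast_mul, Nat.cast_inj, mul_comm _ p, ← h.card_centralizer hy,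
      Nat.card_eq_fintype_card, Fintype.card_subtype]
    refine congrArg Finset.card (Finset.filter_congr fun k _ => ?_)
    rw [Subgroup.mem_centralizer_singleton_iff, mul_inv_eq_iff_eq_mul]
  · intro z hz hz1
    rw [Finset.sum_congr rfl fun ξ _ => by rw [← mul_assoc, conj_cw_mul ξ hz],
      DefectOne.sum_char_conj, Nat.cast_eq_zero, Finset.card_eq_zero, Finset.filter_eq_empty_iff]
    intro k _ hk
    have h1 := preg_conj hp (z⁻¹ * (y : G)) k
    rw [hk, ← Subgroup.mem_center_iff.mp (inv_mem hz) (y : G), h.preg_mul (inv_mem hz),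
      show preg p (y : G) = 1 from by
        simpa using h.preg_mul (y := y) (one_mem (Subgroup.center G))] at h1
    exact hz1 (inv_eq_one.mp (conj_eq_one_iff.mp h1.symm))

/-- A column is orthogonal to the regular columns. -/
theorem Ctx.lvl_orth (ξ₀ : IrrCharacter G) {y : ↥(P : Subgroup G)} (hy : (y : G) ≠ 1) {g : G}
    (hg : ¬ p ∣ orderOf g) :
    ∑ ξ ∈ lvl ξ₀, (ξ : G → ℂ) g * conj ((ξ : G → ℂ) y) = 0 := by
  have hp : p.Prime := Fact.out
  have key : ∀ z ∈ Subgroup.center G,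
      ∑ ξ : IrrCharacter G, (ξ : G → ℂ) (z⁻¹ * g) * conj ((ξ : G → ℂ) y) = 0 := by
    intro z hz
    rw [DefectOne.sum_char_conj, Nat.cast_eq_zero, Finset.card_eq_zero, Finset.filter_eq_empty_iff]
    intro k _ hk
    set w := k⁻¹ * (y : G) * k with hw
    have hgw : g = z * w := by rw [hw, ← hk]; group
    have hwo : orderOf w = p := by
      rw [hw, show k⁻¹ * (y : G) * k = MulAut.conj k⁻¹ (y : G) by simp [MulAut.conj_apply],
        MulEquiv.orderOf_eq, h.orderOf_eq hy]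
    refine hg ?_
    rw [hgw, Commute.orderOf_mul_eq_mul_orderOf_of_coprime
      (Subgroup.mem_center_iff.mp hz w).symm (by
        rw [hwo]; exact (hp.coprime_iff_not_dvd.mpr (h.center_reg hz)).symm), hwo]
    exact dvd_mul_left p _
  have hZ : (Nat.card (Subgroup.center G) : ℂ) ≠ 0 := Nat.cast_ne_zero.mpr Nat.card_pos.ne'
  refine (mul_eq_zero.mp ?_).resolve_left hZ
  rw [sum_lvl (fun ξ => (ξ : G → ℂ) g * conj ((ξ : G → ℂ) y)) ?_ ξ₀]
  · simpa using key 1 (one_mem _)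
  · intro z hz _
    rw [Finset.sum_congr rfl fun ξ _ => by rw [← mul_assoc, conj_cw_mul ξ hz]]
    exact key z hz

/-- The term of the class algebra sum. -/
noncomputable def bterm (y : G) (u : G) (ξ : IrrCharacter G) : ℂ :=
  (ξ : G → ℂ) u * conj ((ξ : G → ℂ) u) * conj ((ξ : G → ℂ) y) / (ξ : G → ℂ) 1

variable [Fintype (↥(P : Subgroup G) →* ℂˣ)]

theorem Ctx.avg_eq_lmult (ξ : IrrCharacter G) :
    (Nat.card P : ℂ)⁻¹ * ∑ a : ↥(P : Subgroup G), (ξ : G → ℂ) a = lmult ξ (1 : ↥(P : Subgroup G) →* ℂˣ) := by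
  have h1 := lmult_spec ξ (1 : ↥(P : Subgroup G) →* ℂˣ)
  simp only [MonoidHom.one_apply, Units.val_one, map_one, mul_one] at h1
  rw [h1, inv_mul_cancel_left₀ (Nat.cast_ne_zero.mpr Nat.card_pos.ne')]

theorem Ctx.lmult_chi_one : lmult χ (1 : ↥(P : Subgroup G) →* ℂˣ) = 1 := by
  obtain ⟨l₀, hl₀, hv⟩ := h.exists_l₀
  have hc : (Nat.card P : ℂ) ≠ 0 := Nat.cast_ne_zero.mpr Nat.card_pos.ne'
  refine Nat.cast_injective (R := ℂ) (mul_left_cancel₀ hc ?_)
  have h1 := lmult_spec χ (1 : ↥(P : Subgroup G) →* ℂˣ)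
  simp only [MonoidHom.one_apply, Units.val_one, map_one, mul_one] at h1
  rw [← h1, ← Finset.add_sum_erase _ _ (Finset.mem_univ (1 : ↥(P : Subgroup G))),
    Finset.sum_congr rfl fun y hy => hv y (fun e => (Finset.mem_erase.mp hy).1 (Subtype.ext e)),
    Finset.sum_neg_distrib, Finset.sum_erase_eq_sub (Finset.mem_univ _), h.frob.sum_orbSum hl₀,
    h.frob.orbSum_one hl₀, OneMemClass.coe_one, char_one_eq_deg (irr_isCharacter χ.2), h.degree,
    h.card, Nat.cast_sub (by have := h.five; omega : 2 ≤ p)]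
  push_cast
  ring

variable {v : G} (hv : v ∈ Subgroup.normalizer ((P : Subgroup G) : Set G))
  (hv' : v ∉ Subgroup.centralizer ((P : Subgroup G) : Set G))
include hv hv'

theorem Ctx.norm_apply_le (ξ : IrrCharacter G) :
    ‖(ξ : G → ℂ) v‖ ≤ (lmult ξ (1 : ↥(P : Subgroup G) →* ℂˣ) : ℝ) := by
  have h1 := norm_le_avg (irr_isCharacter ξ.2) (P : Subgroup G) hv (h.apply_translate ξ hv hv')
  rwa [h.avg_eq_lmult ξ, Complex.natCast_re] at h1

theorem Ctx.chi_apply_ne_zero : (χ : G → ℂ) v ≠ 0 :=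
  ne_zero_of_avg_one (irr_isCharacter χ.2) (P : Subgroup G) hv (h.apply_translate χ hv hv')
    (by rw [h.avg_eq_lmult χ, h.lmult_chi_one, Nat.cast_one])

theorem Ctx.no_products {y : ↥(P : Subgroup G)} (hy : (y : G) ≠ 1) {z : G}
    (hz : z ∈ Subgroup.center G) (hz1 : z ≠ 1) :
    ∀ g g' : G, IsConj v g → IsConj v⁻¹ g' → g * g' ≠ (y : G) * z := by
  intro a b ha hb e
  have hp : p.Prime := Fact.out
  have hz0 := h.mul_self_mem_center hv hv'
  have hsq : ∀ x, IsConj v x → x * x = v * v := fun x hx => by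
    obtain ⟨k, rfl⟩ := isConj_iff.mp hx
    rw [show k * v * k⁻¹ * (k * v * k⁻¹) = k * (v * v) * k⁻¹ by group,
      Subgroup.mem_center_iff.mp hz0 k, mul_inv_cancel_right]
  obtain ⟨c, rfl⟩ : ∃ c, c⁻¹ = b := ⟨b⁻¹, inv_inv b⟩
  have hc : IsConj v c := by
    obtain ⟨k, hk⟩ := isConj_iff.mp hb
    exact isConj_iff.mpr ⟨k, by rw [← inv_inj, ← hk]; group⟩
  have haa := hsq a ha
  have hcc := hsq c hc
  have hrev : a * ((y : G) * z) * a⁻¹ = ((y : G) * z)⁻¹ := by
    rw [← e]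
    calc a * (a * c⁻¹) * a⁻¹ = (a * a) * c⁻¹ * a⁻¹ := by group
      _ = (c * c) * c⁻¹ * a⁻¹ := by rw [haa, hcc]
      _ = (a * c⁻¹)⁻¹ := by group
  have hzz : z = z⁻¹ := by
    have h1 := preg_conj hp ((y : G) * z) a
    rw [hrev, h.preg_mul hz, _root_.mul_inv_rev, Subgroup.mem_center_iff.mp hz a,
      mul_inv_cancel_right, ← Subgroup.mem_center_iff.mp (inv_mem hz) ((y : G)⁻¹),
      show ((y : G))⁻¹ = ((y⁻¹ : ↥(P : Subgroup G)) : G) from rfl, h.preg_mul (inv_mem hz)] at h1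
    exact h1.symm
  have hay : a * (y : G) * a⁻¹ = (y : G)⁻¹ := by
    rw [show a * ((y : G) * z) * a⁻¹ = (a * (y : G) * a⁻¹) * (a * z * a⁻¹) by group,
      Subgroup.mem_center_iff.mp hz a, mul_inv_cancel_right, _root_.mul_inv_rev, ← hzz,
      ← Subgroup.mem_center_iff.mp hz (y : G)⁻¹] at hrev
    exact mul_right_cancel hrev
  have haN : a ∈ Subgroup.normalizer ((P : Subgroup G) : Set G) := by
    refine Subgroup.mem_normalizer_iff_map_conj_eq.mpr ?_
    refine ((congrArg (Subgroup.map _) (eq_zpowers_of_prime_sylow h.card y.2 hy).symm).trans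
      (MonoidHom.map_zpowers _ _)).trans ?_
    show Subgroup.zpowers (a * (y : G) * a⁻¹) = _
    rw [hay, Subgroup.zpowers_inv,
      eq_zpowers_of_prime_sylow h.card y.2 hy]
  have haC : a ∉ Subgroup.centralizer ((P : Subgroup G) : Set G) := fun hc' => by
    rw [← hc' (y : G) y.2, mul_inv_cancel_right, eq_inv_iff_mul_eq_one, ← pow_two] at hay
    have := Nat.le_of_dvd two_pos (h.orderOf_eq hy ▸ orderOf_dvd_of_pow_eq_one hay)
    have := h.five
    omega
  obtain ⟨y1, hy1, z1, hz1', hya⟩ := h.decomp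
    ((h.mul_mem_iff (inv_mem hv) haN).mpr (iff_of_false (fun hc' => hv' (inv_inv v ▸ inv_mem hc')) haC))
  have haeq : a = v * y1 * z1 := by rw [mul_assoc, ← hya, mul_inv_cancel_left]
  have hval : ∀ (w : ↥(P : Subgroup G)) (s : G), s ∈ Subgroup.center G →
      IsConj v (v * w * s) → s = 1 := by
    intro w s hs hconj
    obtain ⟨k, hk⟩ := isConj_iff.mp hconj
    have h1 := cw_apply_mul χ hs (v * (w : G))
    rw [← hk, isClassFunction_character (irr_isCharacter χ.2), h.apply_translate χ hv hv'] at h1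
    exact h.faith_center (mul_right_cancel₀ (h.chi_apply_ne_zero hv hv') (h1.symm.trans (one_mul _).symm))
  obtain rfl : z1 = 1 := hval ⟨y1, hy1⟩ z1 hz1' (haeq ▸ ha)
  rw [mul_one] at haeq
  refine hz1 (hval ⟨y1 * (y : G), mul_mem hy1 y.2⟩ z hz ?_)
  have hceq : c = a * ((y : G) * z) := by
    have h2 : a * ((y : G) * z) = ((y : G) * z)⁻¹ * a := by rw [← hrev, inv_mul_cancel_right]
    rw [h2, ← e]
    group
  rw [show v * (y1 * (y : G)) * z = c by rw [hceq, haeq]; group]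
  exact hc

/-- The class algebra sum does not depend on the central character. -/
theorem Ctx.bsum_eq (ξ₀ ξ₁ : IrrCharacter G) {y : ↥(P : Subgroup G)} (hy : (y : G) ≠ 1) :
    ∑ ξ ∈ lvl ξ₀, bterm (y : G) v ξ = ∑ ξ ∈ lvl ξ₁, bterm (y : G) v ξ := by
  have hZ : (Nat.card (Subgroup.center G) : ℂ) ≠ 0 := Nat.cast_ne_zero.mpr Nat.card_pos.ne'
  have key : ∀ z ∈ Subgroup.center G, z ≠ 1 →
      ∑ ξ : IrrCharacter G, conj (cw ξ z) * bterm (y : G) v ξ = 0 := by
    intro z hz hz1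
    rw [← sum_triple_eq_zero v v⁻¹ ((y : G) * z) (h.no_products hv hv' hy hz hz1)]
    refine Finset.sum_congr rfl fun ξ _ => ?_
    rw [bterm, char_inv (irr_isCharacter ξ.2), cw_apply_mul ξ hz, map_mul]
    ring
  refine mul_left_cancel₀ hZ ?_
  rw [sum_lvl _ key ξ₀, sum_lvl _ key ξ₁]

end Cfsg.Agent.Char.PSubTwo
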