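import Cfsg.Agent.Lib.Char.DefectOneGalois
import Cfsg.Agent.Lib.Char.SmallDegreeSylow
import Cfsg.Agent.Lib.Char.PrimeSylowPrincipal
import Cfsg.Agent.Lib.Char.RootUnityValues
import Cfsg.Agent.Lib.Char.FirstMain

/-!
# Faithful degree `p - 2`: the local structure

The normalizer of a Sylow subgroup `P` of order `p` induces a group of order two on it and the regular
elements centralizing `P` are central.
-/

set_option autoImplicit false
set_option linter.unusedSectionVars false
set_option linter.style.haveILetI false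

open Cfsg
open scoped ComplexConjugate

namespace Cfsg.Agent.Char.PSubTwo

open DefectOne

universe u

variable {G : Type u} [Group G] [Fintype G] {p : ℕ} [Fact p.Prime]

/-- The hypotheses with the local structure. -/
structure Ctx (P : Sylow p G) (χ : IrrCharacter G) : Prop where
  five : 5 < p
  card : Nat.card P = p
  not_normal : ¬ (P : Subgroup G).Normal
  faith : ∀ g : G, (χ : G → ℂ) g = (χ : G → ℂ) 1 → g = 1
  degree : deg (χ : G → ℂ) = p - 2
  index : (Subgroup.centralizer ((P : Subgroup G) : Set G)).relIndex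
    (Subgroup.normalizer ((P : Subgroup G) : Set G)) = 2
  central : ∀ g ∈ Subgroup.centralizer ((P : Subgroup G) : Set G), ¬ p ∣ orderOf g →
    g ∈ Subgroup.center G

theorem exists_rep (χ : IrrCharacter G) (hf : ∀ g : G, (χ : G → ℂ) g = (χ : G → ℂ) 1 → g = 1) :
    ∃ ρ : Representation ℂ G (Fin (deg (χ : G → ℂ)) → ℂ), Function.Injective ρ := by
  obtain ⟨n, ρ, hρ, e⟩ := id χ.2
  have hn : deg (χ : G → ℂ) = n := by rw [← e, deg_character, Module.finrank_fin_fun]
  rw [hn]
  refine ⟨ρ, fun a b h => ?_⟩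
  have h2 : a * b⁻¹ = 1 := hf _ (by
    rw [← e, Representation.char_one, eq_id_iff, map_mul, h, ← map_mul, mul_inv_cancel, map_one]
    rfl)
  exact mul_inv_eq_one.mp h2

/-- The normalizer is not the centralizer. -/
theorem relIndex_ne_one (P : Sylow p G) (χ : IrrCharacter G)
    (hf : ∀ g : G, (χ : G → ℂ) g = (χ : G → ℂ) 1 → g = 1) (hn : deg (χ : G → ℂ) + 1 < p)
    (hP : Nat.card P = p) (hnn : ¬ (P : Subgroup G).Normal) :
    (Subgroup.centralizer ((P : Subgroup G) : Set G)).relIndex
      (Subgroup.normalizer ((P : Subgroup G) : Set G)) ≠ 1 := by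
  intro h1
  obtain ⟨ρ, hρ⟩ := exists_rep χ hf
  have hNC := Subgroup.relIndex_eq_one.mp h1
  have hnp := Fusion.hnpc_of_normalizer_le_centralizer P hNC
  have hcop := Fusion.hnpc_iff.1 hnp
  have hK : pResidual p G ≤ Subgroup.centralizer ((P : Subgroup G) : Set G) := by
    intro g hg u hu
    refine (SmallSylow.commute_pprime ρ hρ hn 1 u ?_ (pResidual p G)
      (Fusion.coprime_card_iff_not_dvd.1 hcop)
      (by rw [Subgroup.normalizer_eq_top]; trivial) g hg).eq
    have h := pow_card_eq_one' (x := (⟨u, hu⟩ : (P : Subgroup G)))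
    rw [hP] at h
    rw [pow_one]
    exact congrArg Subtype.val h
  have hsup := (Fusion.isComplement'_of_coprime_card P hcop).sup_eq_top
  exact hnn (Subgroup.normalizer_eq_top_iff.mp (eq_top_iff.mpr (hsup ▸ sup_le
    (hK.trans (Subgroup.centralizer_le_normalizer _)) Subgroup.le_normalizer)))

open scoped Classical in
/-- The orbit of the block of `C(P)` fits into the degree. -/
theorem orbit_le {M : Ideal AlgInt} {B : Set (IrrCharacter G)} {P : Subgroup G}
    {b : Set (IrrCharacter (Subgroup.centralizer (P : Set G)))}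
    [Fintype (Subgroup.centralizer (P : Set G))] (hM : IsPModular p M)
    (hmax : IsMaximalBrauerPair p M B P b) (hcard : Nat.card P = p) (hsq : ¬ p ^ 2 ∣ Nat.card G)
    {θ : IrrCharacter (Subgroup.centralizer (P : Set G))} (hθ : θ ∈ b)
    (hθP : ∀ x : Subgroup.centralizer (P : Set G), (x : G) ∈ P →
      (θ : Subgroup.centralizer (P : Set G) → ℂ) x = (θ : Subgroup.centralizer (P : Set G) → ℂ) 1)
    (χ : IrrCharacter G) :
    (pairStab (pmod_prime hM) hmax.1.1.2).relIndex (Subgroup.normalizer (P : Set G)) *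
        deg (θ : Subgroup.centralizer (P : Set G) → ℂ) *
        ∑ ψ : IrrCharacter (Subgroup.centralizer (P : Set G)) with ψ ∈ b, mult χ ψ ≤
      ∑ ψ : IrrCharacter (Subgroup.centralizer (P : Set G)),
        mult χ ψ * deg (ψ : Subgroup.centralizer (P : Set G) → ℂ) := by
  have hP := pmod_prime hM
  set N := Subgroup.normalizer (P : Set G) with hN
  set T := pairStab hP hmax.1.1.2 with hT
  set θd := deg (θ : Subgroup.centralizer (P : Set G) → ℂ) with hθd
  haveI : Fintype (N ⧸ T.subgroupOf N) := Fintype.ofFinite _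
  let α : (N ⧸ T.subgroupOf N) → MulAut (Subgroup.centralizer (P : Set G)) := fun q =>
    conjC P ⟨((q.out : N) : G)⁻¹, inv_mem q.out.2⟩
  set Jb := Finset.univ.filter fun ψ : IrrCharacter (Subgroup.centralizer (P : Set G)) => ψ ∈ b with hJb
  let F : (N ⧸ T.subgroupOf N) × IrrCharacter (Subgroup.centralizer (P : Set G)) →
      IrrCharacter (Subgroup.centralizer (P : Set G)) := fun x => irrTransport (α x.1) x.2
  have hmult : ∀ q ψ, mult χ (irrTransport (α q) ψ) = mult χ ψ := by
    intro q ψ
    apply Nat.cast_injective (R := ℂ)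
    rw [← mult_spec, ← mult_spec, classInner, classInner]
    congr 1
    refine Fintype.sum_equiv (α q).toEquiv _ _ fun k => ?_
    simp only [irrTransport_apply, Function.comp_apply, Subgroup.coe_subtype,
      MulEquiv.toEquiv_eq_coe, EquivLike.coe_coe, α, conjC_apply]
    rw [isClassFunction_character (irr_isCharacter χ.2)]
  have hdegF : ∀ q, ∀ ψ ∈ Jb, deg (irrTransport (α q) ψ : Subgroup.centralizer (P : Set G) → ℂ) = θd := by
    intro q ψ hψ
    have h1 := char_one_eq_deg (irr_isCharacter (irrTransport (α q) ψ).2)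
    rw [irrTransport_apply, map_one, deg_local hM hmax hcard (Finset.mem_filter.mp hψ).2 hθ,
      char_one_eq_deg (irr_isCharacter θ.2)] at h1
    exact (Nat.cast_injective h1).symm
  have hinj : Set.InjOn F ↑((Finset.univ : Finset (N ⧸ T.subgroupOf N)) ×ˢ Jb) := by
    rintro ⟨q, ψ⟩ h ⟨q', ψ'⟩ h' e
    simp only [Finset.coe_product, Set.mem_prod, Finset.mem_coe] at h h'
    have hψ := (Finset.mem_filter.mp h.2).2
    have hψ' := (Finset.mem_filter.mp h'.2).2
    set g : G := ((q.out : N) : G)⁻¹ * ((q'.out : N) : G) with hg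
    have hgN : g ∈ N := N.mul_mem (N.inv_mem q.out.2) q'.out.2
    set σ := conjC P ⟨g⁻¹, inv_mem hgN⟩ with hσ
    have eσ : irrTransport σ ψ' = ψ := by
      refine Subtype.ext (funext fun k => ?_)
      have h1 := congrFun (congrArg Subtype.val e) ((α q).symm k)
      simp only [F, irrTransport_apply, MulEquiv.apply_symm_apply] at h1
      rw [irrTransport_apply, h1]
      refine congrArg _ (Subtype.ext ?_)
      have hs : (((α q).symm k : Subgroup.centralizer (P : Set G)) : G) =
          ((q.out : N) : G) * (k : G) * ((q.out : N) : G)⁻¹ := by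
        show (((q.out : N) : G)⁻¹)⁻¹ * (k : G) * ((q.out : N) : G)⁻¹ = _
        rw [inv_inv]
      simp only [hσ, α, conjC_apply, hs, hg]
      group
    have hb : irrTransport σ '' b = b := by
      rw [block_eq_blockOf hP (isPBlock_transport σ hmax.1.1.2) (χ := ψ) ⟨ψ', hψ', eσ⟩,
        ← block_eq_blockOf hP hmax.1.1.2 hψ]
    have hgT : g ∈ T := by
      refine (stab_iff hM hmax hcard hsq hθ hθP hgN).mpr ?_
      by_contra hne
      have h1 := root_orth hM hmax hcard hsq (show irrTransport σ θ ∈ b from hb ▸ ⟨θ, hθ, rfl⟩) hθ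
      have h2 : (θ : Subgroup.centralizer (P : Set G) → ℂ) 1 ≠ 0 := by
        rw [char_one_eq_deg (irr_isCharacter θ.2)]
        exact Nat.cast_ne_zero.mpr (deg_pos θ.2).ne'
      rw [if_neg hne, Finset.sum_congr rfl (g := fun _ => (1 : ℂ)) fun v _ => by
        rw [irrTransport_apply, irrTransport_apply, map_one, hθP _ (by
          rw [hσ, conjC_apply]; exact (Subgroup.mem_normalizer_iff.mp (inv_mem hgN) _).mp v.2),
          hθP (incl hM hcard v) v.2, div_self h2, map_one, one_mul]] at h1
      simp only [Finset.sum_const, Finset.card_univ, nsmul_eq_mul, mul_one, Nat.cast_eq_zero] at h1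
      exact Fintype.card_ne_zero h1
    have hq : q = q' := by
      rw [← QuotientGroup.out_eq' q, ← QuotientGroup.out_eq' q']
      exact QuotientGroup.eq.mpr hgT
    subst hq
    exact Prod.ext rfl (irrTransport_injective _ e)
  calc T.relIndex N * θd * ∑ ψ ∈ Jb, mult χ ψ
      = ∑ x ∈ (Finset.univ : Finset (N ⧸ T.subgroupOf N)) ×ˢ Jb, mult χ (F x) *
          deg (F x : Subgroup.centralizer (P : Set G) → ℂ) := by
        rw [Finset.sum_product, Finset.sum_congr rfl fun q _ => Finset.sum_congr rfl fun ψ hψ => by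
          rw [hmult q ψ, hdegF q ψ hψ], Finset.sum_const, Finset.card_univ,
          ← Nat.card_eq_fintype_card, ← Finset.sum_mul, smul_eq_mul, Subgroup.relIndex,
          Subgroup.index]
        ring
    _ = ∑ ψ ∈ ((Finset.univ : Finset (N ⧸ T.subgroupOf N)) ×ˢ Jb).image F,
          mult χ ψ * deg (ψ : Subgroup.centralizer (P : Set G) → ℂ) :=
        (Finset.sum_image (f := fun ψ => mult χ ψ *
          deg (ψ : Subgroup.centralizer (P : Set G) → ℂ)) hinj).symm
    _ ≤ _ := Finset.sum_le_sum_of_subset (Finset.subset_univ _)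

/-- The numerical alternatives. -/
theorem arith {p d n e : ℕ} (hp : p.Prime) (h5 : 5 < p) (he : 2 ≤ e) (hep : e ∣ p - 1)
    (hdn : d * n = p - 2) (δ η : ℤ) (hδ : δ = 1 ∨ δ = -1) (hη : η = 1 ∨ η = -1)
    (h : δ * ((p - 2 : ℕ) : ℤ) ≡ η * (d : ℤ) [ZMOD p] ∨
      δ * ((p - 2 : ℕ) : ℤ) ≡ -(η * ((e * d : ℕ) : ℤ)) [ZMOD p]) :
    n = 1 ∨ (d = 1 ∧ e = 2) := by
  have hd0 : d ≠ 0 := fun h => by rw [h, zero_mul] at hdn; omega
  have hdle : d ≤ p - 2 := hdn ▸ Nat.le_mul_of_pos_right _ (Nat.pos_of_ne_zero fun h => by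
    rw [h, mul_zero] at hdn; omega)
  have hnle : n ≤ p - 2 := hdn ▸ Nat.le_mul_of_pos_left _ (Nat.pos_of_ne_zero hd0)
  have hn0 : n ≠ 0 := fun h => by rw [h, mul_zero] at hdn; omega
  have hpd : ¬ (p : ℤ) ∣ (d : ℤ) := fun h => by
    have := Nat.le_of_dvd (Nat.pos_of_ne_zero hd0) (Int.natCast_dvd_natCast.mp h)
    omega
  have hpr : Prime (p : ℤ) := Nat.prime_iff_prime_int.mp hp
  have hele : e ≤ p - 1 := Nat.le_of_dvd (by omega) hep
  rw [← hdn] at h
  rcases h with h | h
  · left
    have h1 : (p : ℤ) ∣ (d : ℤ) * (η - δ * n) := by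
      have := Int.modEq_iff_dvd.mp h
      push_cast at this
      rw [show (d : ℤ) * (η - δ * n) = η * d - δ * (d * n) by ring]
      exact this
    have h2 := (hpr.dvd_mul.mp h1).resolve_left hpd
    rcases hδ with rfl | rfl <;> rcases hη with rfl | rfl
    · have := Int.eq_zero_of_dvd_of_natAbs_lt_natAbs h2 (by omega); omega
    · have := Int.eq_zero_of_dvd_of_natAbs_lt_natAbs h2 (by omega); omega
    · have := Int.eq_zero_of_dvd_of_natAbs_lt_natAbs h2 (by omega); omega
    · have := Int.eq_zero_of_dvd_of_natAbs_lt_natAbs h2 (by omega); omega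
  · have h1 : (p : ℤ) ∣ (d : ℤ) * (η * e + δ * n) := by
      have := Int.modEq_iff_dvd.mp h
      push_cast at this
      rw [← dvd_neg, show -((d : ℤ) * (η * e + δ * n)) = -(η * (e * d)) - δ * (d * n) by ring]
      exact this
    have h2 := (hpr.dvd_mul.mp h1).resolve_left hpd
    have hcase : n = e ∨ n + e = p := by
      by_cases hsgn : δ = η
      · subst hsgn
        right
        have h3 : (p : ℤ) ∣ ((e : ℤ) + n) := by
          rcases hη with rfl | rfl
          · simpa using h2
          · rw [← dvd_neg]; convert h2 using 1; ring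
        obtain ⟨c, hc⟩ := h3
        have hc1 : 0 < c := by
          by_contra hle
          have : (p : ℤ) * c ≤ 0 := mul_nonpos_of_nonneg_of_nonpos (by omega) (by omega)
          omega
        have hc2 : c < 2 := by
          by_contra hle
          have : (p : ℤ) * 2 ≤ (p : ℤ) * c := mul_le_mul_of_nonneg_left (by omega) (by omega)
          omega
        obtain rfl : c = 1 := by omega
        omega
      · left
        have h3 : (p : ℤ) ∣ ((e : ℤ) - n) := by
          obtain ⟨c, hc⟩ := h2
          rcases hη with rfl | rfl <;> rcases hδ with rfl | rfl <;> first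
            | exact absurd rfl hsgn
            | exact ⟨c, by linarith⟩
            | exact ⟨-c, by linarith⟩
        have := Int.eq_zero_of_dvd_of_natAbs_lt_natAbs h3 (by omega)
        omega
    rcases hcase with rfl | hne
    · exfalso
      have h3 : n ∣ (p - 1) - (p - 2) := Nat.dvd_sub hep (hdn ▸ dvd_mul_left n d)
      rw [show (p - 1) - (p - 2) = 1 by omega, Nat.dvd_one] at h3
      omega
    · rcases Nat.lt_or_ge d 2 with hd | hd
      · right
        obtain rfl : d = 1 := by omega
        exact ⟨rfl, by omega⟩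
      · left
        have h3 : 2 * n ≤ p - 2 := hdn ▸ Nat.mul_le_mul_right n hd
        obtain ⟨c, hc⟩ := hep
        rcases Nat.lt_or_ge c 2 with hc2 | hc2
        · interval_cases c <;> omega
        · have : e * 2 ≤ e * c := Nat.mul_le_mul_left e hc2
          omega

/-- The local structure for a suitable Sylow subgroup. -/
theorem exists_ctx (h5 : 5 < p) (P₀ : Sylow p G) (hP₀ : Nat.card P₀ = p)
    (hnn₀ : ¬ (P₀ : Subgroup G).Normal) (χ : IrrCharacter G)
    (hf : ∀ g : G, (χ : G → ℂ) g = (χ : G → ℂ) 1 → g = 1) (hdeg : deg (χ : G → ℂ) = p - 2) :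
    ∃ P : Sylow p G, Ctx P χ := by
  classical
  have hp : p.Prime := Fact.out
  have hfac : (Nat.card G).factorization p = 1 := by
    have h := P₀.card_eq_multiplicity
    rw [hP₀] at h
    exact (Nat.pow_right_injective hp.two_le ((pow_one p).trans h)).symm
  have hsq : ¬ p ^ 2 ∣ Nat.card G := fun h => by
    have := (hp.pow_dvd_iff_le_factorization Nat.card_pos.ne').mp h
    omega
  have hpdeg : ¬ p ∣ deg (χ : G → ℂ) := fun h => by
    rw [hdeg] at h
    have := Nat.le_of_dvd (by omega) h
    omega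
  obtain ⟨M, hM⟩ := exists_pModular hp
  have hMp := pmod_prime hM
  set B := blockOf M (χ : G → ℂ) with hBdef
  have hB : IsPBlock M B := isPBlock_blockOf M χ
  have hχB : χ ∈ B := self_mem_blockOf hMp χ
  have hdef1 : blockDefect p B = 1 := by
    have h1 := dmin_add_defect (p := p) (block_nonempty hMp hB)
    have h2 := dexp_eq_height_add (p := p) hχB
    have h3 : dexp p (χ : G → ℂ) = 0 := Nat.factorization_eq_zero_of_not_dvd hpdeg
    omega
  obtain ⟨D, hD⟩ := exists_isDefectGroup hM hB
  have hDcard : Nat.card D = p := by rw [card_defectGroup hM hB hD, hdef1, pow_one]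
  obtain ⟨b, hb⟩ := exists_pair_of_le_defect hM hB hD le_rfl
  have hmax := maximal_of_defect hM hD hb
  haveI := Fintype.ofFinite (Subgroup.centralizer (D : Set G))
  obtain ⟨θ, hθ, hθP⟩ := exists_trivial hM hmax hDcard hsq
  let P : Sylow p G := Sylow.ofCard D (by rw [hDcard, hfac, pow_one])
  have hPD : (P : Subgroup G) = D := rfl
  have hP : Nat.card P = p := hDcard
  have hnn : ¬ (P : Subgroup G).Normal := fun h => by
    haveI := Sylow.unique_of_normal P h
    exact hnn₀ (Subsingleton.elim P P₀ ▸ h)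
  refine ⟨P, ?_⟩
  have hN2 := relIndex_ne_one P χ hf (by omega) hP hnn
  rw [hPD] at hN2
  set T := pairStab hMp hmax.1.1.2 with hT
  obtain ⟨N', y, δ, δ₀, η, -, heN, -, hyB, -, hδ, hδ₀, hη, -, hdX, hdY, -⟩ :=
    exists_degrees hM hmax hDcard hsq hθ hθP (e := (Subgroup.centralizer (D : Set G)).relIndex T)
      (d := T.relIndex (Subgroup.normalizer (D : Set G)) * deg (θ : (Subgroup.centralizer (D : Set G)) → ℂ)) rfl rfl
  have hte : (Subgroup.centralizer (D : Set G)).relIndex (Subgroup.normalizer (D : Set G)) = (Subgroup.centralizer (D : Set G)).relIndex T * T.relIndex (Subgroup.normalizer (D : Set G)) := by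
    have hCT : (Subgroup.centralizer (D : Set G)) ≤ T := (stabCtx_pairStab hM hmax.1.1.1 hmax.1.1.2).cent
    have hTN : T ≤ (Subgroup.normalizer (D : Set G)) := fun g hg => ((mem_pairStab hMp hmax.1.1.2).mp hg).1
    exact (Subgroup.relIndex_mul_relIndex (Subgroup.centralizer (D : Set G)) T (Subgroup.normalizer (D : Set G)) hCT hTN).symm
  -- the degree
  have hsum : p - 2 = ∑ ψ : IrrCharacter (Subgroup.centralizer (D : Set G)), mult χ ψ * deg (ψ : (Subgroup.centralizer (D : Set G)) → ℂ) := by
    refine SmallSylow.sum_deg (f := (χ : G → ℂ) ∘ (Subgroup.centralizer (D : Set G)).subtype) (fun ψ => mult χ ψ) ?_ ?_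
    · have hcls : IsClassFunction (Subgroup.centralizer (D : Set G)) ((χ : G → ℂ) ∘ (Subgroup.centralizer (D : Set G)).subtype) :=
        isClassFunction_character (isCharacter_comp _ (irr_isCharacter χ.2))
      conv_lhs => rw [classFun_expansion hcls]
      funext c
      simp only [Finset.sum_apply, Pi.smul_apply, smul_eq_mul, mult_spec, nsmul_eq_mul, Pi.mul_apply, Pi.natCast_apply]
    · show (χ : G → ℂ) ((1 : (Subgroup.centralizer (D : Set G))) : G) = _
      rw [OneMemClass.coe_one, char_one_eq_deg (irr_isCharacter χ.2), hdeg]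
  set n := ∑ ψ : IrrCharacter (Subgroup.centralizer (D : Set G)) with ψ ∈ b, mult χ ψ with hn
  have hle : T.relIndex (Subgroup.normalizer (D : Set G)) * deg (θ : (Subgroup.centralizer (D : Set G)) → ℂ) * n ≤ p - 2 := by
    rw [hsum]
    exact orbit_le hM hmax hDcard hsq hθ hθP χ
  have hcong := deg_congr hM hmax hDcard hsq hθ hθP hχB
  rw [hdeg] at hcong
  change ((p - 2 : ℕ) : ℤ) ≡
    ((T.relIndex (Subgroup.normalizer (D : Set G)) *
      deg (θ : (Subgroup.centralizer (D : Set G)) → ℂ) * n : ℕ) : ℤ) [ZMOD p] at hcong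
  have hdn : T.relIndex (Subgroup.normalizer (D : Set G)) * deg (θ : (Subgroup.centralizer (D : Set G)) → ℂ) * n = p - 2 := by
    have h1 := Int.eq_zero_of_dvd_of_natAbs_lt_natAbs hcong.dvd (by omega)
    omega
  -- `(Subgroup.normalizer (D : Set G)) / (Subgroup.centralizer (D : Set G))` embeds in the automorphisms of `D`
  have htp : T.relIndex (Subgroup.normalizer (D : Set G)) ∣ p - 1 := by
    have h := frobSylow_of_prime hP
    haveI := h.finite_dual.1
    haveI : Fintype (↥(P : Subgroup G) →* ℂˣ) := Fintype.ofFinite _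
    obtain ⟨r, -, -, -, hr, -⟩ := h.exists_orbit_index
    rw [hP, hPD] at hr
    refine dvd_trans ⟨(Subgroup.centralizer (D : Set G)).relIndex T, ?_⟩ (show (Subgroup.centralizer (D : Set G)).relIndex (Subgroup.normalizer (D : Set G)) ∣ p - 1 from ⟨r, ?_⟩)
    · rw [hte, mul_comm]
    · rw [mul_comm]; omega
  have ht : T.relIndex (Subgroup.normalizer (D : Set G)) = 1 := by
    have h3 : T.relIndex (Subgroup.normalizer (D : Set G)) ∣ (p - 1) - (p - 2) :=
      Nat.dvd_sub htp (hdn ▸ dvd_mul_of_dvd_left (dvd_mul_right _ _) _)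
    rwa [show (p - 1) - (p - 2) = 1 by omega, Nat.dvd_one] at h3
  rw [ht, mul_one] at hte
  rw [ht, one_mul] at hdn
  simp only [ht, one_mul] at hdX hdY
  have he2 : 2 ≤ (Subgroup.centralizer (D : Set G)).relIndex T := by
    have h0 : (Subgroup.centralizer (D : Set G)).relIndex T ≠ 0 := Subgroup.index_ne_zero_of_finite
    omega
  have hor : n = 1 ∨ (deg (θ : (Subgroup.centralizer (D : Set G)) → ℂ) = 1 ∧ (Subgroup.centralizer (D : Set G)).relIndex T = 2) := by
    by_cases hy' : χ ∈ Set.range y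
    · obtain ⟨i, hi⟩ := hy'
      have h1 := hdY i
      rw [hi, hdeg] at h1
      exact arith hp h5 he2 ⟨N', heN.symm⟩ hdn δ₀ η hδ₀ hη (Or.inr h1)
    · have h1 := hdX χ hχB hy'
      rw [hdeg] at h1
      exact arith hp h5 he2 ⟨N', heN.symm⟩ hdn (δ χ) η (hδ χ) hη (Or.inl h1)
  -- every constituent lies in `b`
  have hout : ∀ ψ : IrrCharacter (Subgroup.centralizer (D : Set G)), ψ ∉ b → mult χ ψ = 0 := by
    intro ψ hψ
    have h1 : ∑ ψ' : IrrCharacter (Subgroup.centralizer (D : Set G)) with ψ' ∈ b, mult χ ψ' * deg (ψ' : (Subgroup.centralizer (D : Set G)) → ℂ) = p - 2 := by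
      rw [← hdn, hn, mul_comm, Finset.sum_mul]
      refine Finset.sum_congr rfl fun ψ' hψ' => congrArg _ ?_
      have h := deg_local hM hmax hDcard (Finset.mem_filter.mp hψ').2 hθ
      rw [char_one_eq_deg (irr_isCharacter ψ'.2), char_one_eq_deg (irr_isCharacter θ.2)] at h
      exact Nat.cast_injective h
    rw [← Finset.sum_filter_add_sum_filter_not Finset.univ (fun ψ' => ψ' ∈ b), h1] at hsum
    have h2 : ∑ ψ' : IrrCharacter (Subgroup.centralizer (D : Set G)) with ψ' ∉ b, mult χ ψ' * deg (ψ' : (Subgroup.centralizer (D : Set G)) → ℂ) = 0 := by omega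
    have h3 := Finset.sum_eq_zero_iff.mp h2 ψ (Finset.mem_filter.mpr ⟨Finset.mem_univ _, hψ⟩)
    exact (Nat.mul_eq_zero.mp h3).resolve_right (deg_pos ψ.2).ne'
  have hval : ∀ c : (Subgroup.centralizer (D : Set G)), (χ : G → ℂ) (c : G) =
      ∑ ψ : IrrCharacter (Subgroup.centralizer (D : Set G)) with ψ ∈ b, (mult χ ψ : ℂ) * (ψ : (Subgroup.centralizer (D : Set G)) → ℂ) c := by
    intro c
    have hcls : IsClassFunction (Subgroup.centralizer (D : Set G)) ((χ : G → ℂ) ∘ (Subgroup.centralizer (D : Set G)).subtype) :=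
      isClassFunction_character (isCharacter_comp _ (irr_isCharacter χ.2))
    have h1 := congrFun (classFun_expansion hcls) c
    simp only [Finset.sum_apply, Pi.smul_apply, smul_eq_mul, mult_spec] at h1
    rw [Finset.sum_filter]
    refine h1.trans (Finset.sum_congr rfl fun ψ _ => ?_)
    split_ifs with h
    · rfl
    · rw [hout ψ h, Nat.cast_zero, zero_mul]
  have hn1 : n ≠ 1 := by
    intro h1
    obtain ⟨ψ0, hψ0, hm0⟩ : ∃ ψ0 ∈ (Finset.univ.filter fun ψ : IrrCharacter (Subgroup.centralizer (D : Set G)) => ψ ∈ b),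
        mult χ ψ0 ≠ 0 := Finset.exists_ne_zero_of_sum_ne_zero (by rw [← hn, h1]; exact one_ne_zero)
    have hrest : ∀ ψ ∈ (Finset.univ.filter fun ψ : IrrCharacter (Subgroup.centralizer (D : Set G)) => ψ ∈ b), ψ ≠ ψ0 →
        mult χ ψ = 0 := by
      intro ψ hψ hne
      have h2 := Finset.sum_le_sum_of_subset (f := fun ψ => mult χ ψ) (s := {ψ, ψ0})
        (t := Finset.univ.filter fun ψ : IrrCharacter (Subgroup.centralizer (D : Set G)) => ψ ∈ b) (by simp [Finset.insert_subset_iff, hψ, hψ0])
      rw [Finset.sum_pair hne, ← hn, h1] at h2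
      omega
    have hv : ∀ c : (Subgroup.centralizer (D : Set G)), (χ : G → ℂ) (c : G) = (mult χ ψ0 : ℂ) * (ψ0 : (Subgroup.centralizer (D : Set G)) → ℂ) c := fun c => by
      rw [hval, Finset.sum_eq_single_of_mem ψ0 hψ0 fun ψ hψ hne => by
        rw [hrest ψ hψ hne, Nat.cast_zero, zero_mul]]
    have hDZ : D ≤ Subgroup.center G := by
      intro v hv'
      refine RootValues.mem_center_of_norm χ hf ?_
      have h2 := RootValues.norm_of_center ψ0 (z := incl hM hDcard ⟨v, hv'⟩)
        (Subgroup.mem_center_iff.mpr fun c => (incl_central hM hDcard _ c).symm)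
      have h3 := hv 1
      rw [OneMemClass.coe_one, char_one_eq_deg (irr_isCharacter χ.2),
        char_one_eq_deg (irr_isCharacter ψ0.2)] at h3
      rw [show v = ((incl hM hDcard ⟨v, hv'⟩ : (Subgroup.centralizer (D : Set G))) : G) from rfl, hv, norm_mul, h2,
        Complex.norm_natCast]
      exact_mod_cast h3.symm
    refine hnn ?_
    rw [hPD]
    exact ⟨fun a ha g => by
      have h2 := Subgroup.mem_center_iff.mp (hDZ ha) g
      rwa [h2, mul_inv_cancel_right]⟩
  obtain ⟨hθ1, he⟩ := hor.resolve_left hn1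
  refine ⟨h5, hP, hnn, hf, hdeg, by rw [hPD]; omega, fun g hg hgreg => ?_⟩
  rw [hPD] at hg
  refine RootValues.mem_center_of_norm χ hf ?_
  have hv : (χ : G → ℂ) g = (n : ℂ) * (θ : (Subgroup.centralizer (D : Set G)) → ℂ) ⟨g, hg⟩ := by
    refine (hval ⟨g, hg⟩).trans ?_
    rw [hn, Nat.cast_sum, Finset.sum_mul]
    refine Finset.sum_congr rfl fun ψ hψ => ?_
    rw [regular hM hmax hDcard (Finset.mem_filter.mp hψ).2 hθ (by rwa [Subgroup.orderOf_mk])]
  have hθu : ‖(θ : (Subgroup.centralizer (D : Set G)) → ℂ) ⟨g, hg⟩‖ = 1 := by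
    obtain ⟨l, hl⟩ := exists_hom_of_degree_one (irr_isCharacter θ.2)
      (by rw [char_one_eq_deg (irr_isCharacter θ.2), hθ1, Nat.cast_one])
    rw [hl]
    refine Complex.norm_eq_one_of_pow_eq_one (n := orderOf (⟨g, hg⟩ : (Subgroup.centralizer (D : Set G)))) ?_ (orderOf_pos _).ne'
    rw [← Units.val_pow_eq_pow_val, ← map_pow, pow_orderOf_eq_one, map_one, Units.val_one]
  rw [hθ1, one_mul] at hdn
  rw [hv, norm_mul, hθu, mul_one, Complex.norm_natCast, hdn, hdeg]

end Cfsg.Agent.Char.PSubTwo
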