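import Cfsg.Agent.Lib.Char.PSubTwo.Order
import Cfsg.Agent.Lib.Char.SelfCentralizing
import Cfsg.Agent.Lib.Solv.BrauerReynoldsReduce
import Cfsg.Agent.Lib.Char.Inflate
import Cfsg.Agent.Lib.Char.Coprime

/-!
# Faithful degree `p - 2`: the group is `SL(2, 2^a) × Z`
-/

set_option autoImplicit false
set_option linter.unusedSectionVars false
set_option linter.style.haveILetI false

open Cfsg
open scoped ComplexConjugate Classical

namespace Cfsg.Agent.Char.PSubTwo

universe u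

variable {G : Type u} [Group G] [Fintype G] {p : ℕ} [Fact p.Prime] {P : Sylow p G}
  {χ : IrrCharacter G}

theorem Ctx.exists_data (h : Ctx P χ) : ∃ (_ : Fintype (↥(P : Subgroup G) →* ℂˣ)) (r : ℕ)
    (rep : Fin r → (↥(P : Subgroup G) →* ℂˣ)) (idx : (↥(P : Subgroup G) →* ℂˣ) → Fin r)
    (fam : Fin r → IrrCharacter G) (i₀ : Fin r), Data P χ rep idx fam i₀ := by
  haveI := h.frob.finite_dual.1
  let F : Fintype (↥(P : Subgroup G) →* ℂˣ) := Fintype.ofFinite _
  obtain ⟨r, rep, idx, fam, i₀, -, hI, hf, hb⟩ := h.exists_fam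
  exact ⟨F, r, rep, idx, fam, i₀, h, hI, hf, hb⟩

/-- The linear character splitting the centre off. -/
theorem Ctx.exists_linear (h : Ctx P χ) :
    ∃ l : G →* ℂˣ, ∀ z ∈ Subgroup.center G, ((l z : ℂˣ) : ℂ) = cw χ z := by
  obtain ⟨F, r, rep, idx, fam, i₀, D⟩ := h.exists_data
  obtain ⟨a, b, k, hC⟩ := D.exists_companions
  have hb1 : deg (b : G → ℂ) = 1 := by rw [hC.b_deg, D.companion_linear hC, zero_mul, zero_add]
  obtain ⟨l, hl⟩ := exists_hom_of_degree_one (irr_isCharacter b.2)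
    (by rw [char_one_eq_deg (irr_isCharacter b.2), hb1, Nat.cast_one])
  refine ⟨l, fun z hz => ?_⟩
  rw [← mem_lvl.mp hC.b_mem z hz, cw, char_one_eq_deg (irr_isCharacter b.2), hb1, Nat.cast_one,
    div_one, hl]

/-- The quotient by the centre satisfies the same hypotheses with trivial centre. -/
theorem Ctx.exists_quotient (h : Ctx P χ) [Fintype (G ⧸ Subgroup.center G)]
    (l : G →* ℂˣ) (hl : ∀ z ∈ Subgroup.center G, ((l z : ℂˣ) : ℂ) = cw χ z) :
    Subgroup.center (G ⧸ Subgroup.center G) = ⊥ ∧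
    ∃ (Q : Sylow p (G ⧸ Subgroup.center G)) (ξ : IrrCharacter (G ⧸ Subgroup.center G)), Ctx Q ξ := by
  have hp : p.Prime := Fact.out
  set Z := Subgroup.center G with hZ
  have hsurj : Function.Surjective (QuotientGroup.mk' Z) := QuotientGroup.mk'_surjective Z
  -- twisting by `P` modulo the centre
  have hfix : ∀ (g : G) (y : ↥(P : Subgroup G)),
      ((g * (y : G) * g⁻¹ : G) : G ⧸ Z) = ((y : G) : G ⧸ Z) → g * (y : G) * g⁻¹ = y := by
    intro g y e
    obtain ⟨z, hz, hge⟩ : ∃ z ∈ Z, g * (y : G) * g⁻¹ = (y : G) * z := by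
      refine ⟨(y : G)⁻¹ * (g * (y : G) * g⁻¹), QuotientGroup.eq.mp e.symm, ?_⟩
      rw [mul_inv_cancel_left]
    have h1 := preg_conj hp (y : G) g
    rw [hge, h.preg_mul hz, show preg p (y : G) = 1 from by
      simpa using h.preg_mul (y := y) (one_mem (Subgroup.center G))] at h1
    rw [hge, h1]
    simp
  have hPZ : ∀ y : ↥(P : Subgroup G), ((y : G) : G ⧸ Z) = 1 → (y : G) = 1 := by
    intro y e
    by_contra hne
    have h1 := h.center_reg ((QuotientGroup.eq_one_iff _).mp e)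
    rw [h.orderOf_eq hne] at h1
    exact h1 dvd_rfl
  set P' : Sylow p (G ⧸ Z) := P.mapSurjective hsurj with hP'
  have hP'card : Nat.card P' = p := by
    show Nat.card ↥((P : Subgroup G).map (QuotientGroup.mk' Z)) = p
    refine Eq.trans ?_ h.card
    refine (Nat.card_congr (Equiv.ofBijective
      (fun y : ↥(P : Subgroup G) => (⟨QuotientGroup.mk' Z y, ⟨y, y.2, rfl⟩⟩ :
        ↥((P : Subgroup G).map (QuotientGroup.mk' Z)))) ⟨?_, ?_⟩)).symm
    · intro a b e
      have e' : (((a * b⁻¹ : ↥(P : Subgroup G)) : G) : G ⧸ Z) = 1 := by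
        have e1 : ((a : G) : G ⧸ Z) = ((b : G) : G ⧸ Z) := congrArg Subtype.val e
        rw [Subgroup.coe_mul, Subgroup.coe_inv, QuotientGroup.mk_mul, QuotientGroup.mk_inv, e1,
          mul_inv_cancel]
      exact mul_inv_eq_one.mp (Subtype.ext (hPZ _ e'))
    · rintro ⟨_, y, hy, rfl⟩
      exact ⟨⟨y, hy⟩, rfl⟩
  have hnn : ¬ (P' : Subgroup (G ⧸ Z)).Normal := fun hn => h.not_normal ⟨fun y hy g => by
    obtain ⟨w, hw, e⟩ := hn.conj_mem _ ⟨y, hy, rfl⟩ (QuotientGroup.mk' Z g)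
    obtain ⟨z, hz, hge⟩ : ∃ z ∈ Z, g * y * g⁻¹ = w * z := by
      refine ⟨w⁻¹ * (g * y * g⁻¹), QuotientGroup.eq.mp ?_, by rw [mul_inv_cancel_left]⟩
      simpa using e
    have h1 := preg_conj hp y g
    rw [hge, h.preg_mul (y := ⟨w, hw⟩) hz, show preg p y = 1 from by
      simpa using h.preg_mul (y := ⟨y, hy⟩) (one_mem (Subgroup.center G))] at h1
    rw [mul_one, mul_inv_cancel] at h1
    rw [hge, h1, mul_one]
    exact hw⟩
  have hcen : Subgroup.center (G ⧸ Z) = ⊥ := by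
    rw [eq_bot_iff]
    intro q hq
    obtain ⟨g, rfl⟩ := QuotientGroup.mk_surjective q
    rw [Subgroup.mem_bot]
    have hgC : g ∈ Subgroup.centralizer ((P : Subgroup G) : Set G) := fun y hy => by
      have h1 := hfix g ⟨y, hy⟩ (by
        rw [QuotientGroup.mk_mul, QuotientGroup.mk_mul, QuotientGroup.mk_inv,
          ← Subgroup.mem_center_iff.mp hq ((y : G) : G ⧸ Z), mul_inv_cancel_right])
      exact (mul_inv_eq_iff_eq_mul.mp h1).symm
    obtain ⟨y, hy, z, hz, rfl⟩ := h.decomp hgC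
    rw [QuotientGroup.mk_mul, (QuotientGroup.eq_one_iff z).mpr hz, mul_one] at hq ⊢
    by_contra hne
    have hy1 : (y : G) ≠ 1 := fun e => hne (by rw [e, QuotientGroup.mk_one])
    have hyZ : y ∈ Z := Subgroup.mem_center_iff.mpr fun g => by
      have h1 := hfix g ⟨y, hy⟩ (by
        rw [QuotientGroup.mk_mul, QuotientGroup.mk_mul, QuotientGroup.mk_inv,
          Subgroup.mem_center_iff.mp hq ((g : G) : G ⧸ Z), mul_inv_cancel_right])
      exact mul_inv_eq_iff_eq_mul.mp h1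
    exact hne ((QuotientGroup.eq_one_iff y).mpr hyZ)
  -- the twisted character
  have hdeg : ∀ g : G, ((l⁻¹ g : ℂˣ) : ℂ) = conj ((l g : ℂˣ) : ℂ) := fun g => by
    rw [MonoidHom.inv_apply, ← map_inv, char_inv (isCharacter_linear l)]
  obtain ⟨ξ, hξ⟩ := exists_deflate Z (isIrr_linear_mul χ.2 l⁻¹) fun z hz => by
    rw [map_one, Units.val_one, one_mul, hdeg, hl z hz]
    calc conj (cw χ z) * (χ : G → ℂ) z = conj (cw χ z) * (cw χ z * (χ : G → ℂ) 1) := by
          rw [← cw_mul_apply χ hz, mul_one]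
      _ = cw χ z * conj (cw χ z) * (χ : G → ℂ) 1 := by ring
      _ = (χ : G → ℂ) 1 := by rw [cw_mul_conj χ hz, one_mul]
  have hξ1 : (ξ : G ⧸ Z → ℂ) 1 = (χ : G → ℂ) 1 := by
    rw [← QuotientGroup.mk_one, hξ, map_one, Units.val_one, one_mul]
  have hξf : ∀ q, (ξ : G ⧸ Z → ℂ) q = (ξ : G ⧸ Z → ℂ) 1 → q = 1 := by
    intro q e
    obtain ⟨g, rfl⟩ := QuotientGroup.mk_surjective q
    rw [hξ, hξ1, char_one_eq_deg (irr_isCharacter χ.2)] at e
    refine (QuotientGroup.eq_one_iff g).mpr (RootValues.mem_center_of_norm χ h.faith ?_)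
    have h1 := congrArg (fun w : ℂ => ‖w‖) e
    have h2 : ‖((l⁻¹ g : ℂˣ) : ℂ)‖ = 1 := Complex.norm_eq_one_of_pow_eq_one (n := orderOf g)
      (by rw [← Units.val_pow_eq_pow_val, ← map_pow, pow_orderOf_eq_one, map_one, Units.val_one])
      (orderOf_pos g).ne'
    simp only [norm_mul, h2, one_mul, Complex.norm_natCast] at h1
    exact h1
  have hξd : deg (ξ : G ⧸ Z → ℂ) = p - 2 := by
    rw [char_one_eq_deg (irr_isCharacter ξ.2), char_one_eq_deg (irr_isCharacter χ.2), h.degree] at hξ1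
    exact_mod_cast hξ1
  obtain ⟨Q, hQ⟩ := exists_ctx h.five P' hP'card hnn ξ hξf hξd
  exact ⟨hcen, Q, ξ, hQ⟩

/-- The structure of a group with trivial centre. -/
theorem Ctx.concl (h : Ctx P χ) (hZ : Subgroup.center G = ⊥) :
    commutator G = ⊤ ∧ Solv.BReyn.Concl p G ∧ Nat.card G = p * (p - 1) * (p - 2) := by
  have hp : p.Prime := Fact.out
  have h5 := h.five
  obtain ⟨F, r, rep, idx, fam, i₀, D⟩ := h.exists_data
  have hperf := D.perfect hZ
  have hcardG := D.card_eq hZ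
  have hCP := D.centralizer_eq hZ
  obtain ⟨y, hy⟩ := h.exists_nonOne
  have hzP : Subgroup.zpowers (y : G) = (P : Subgroup G) := eq_zpowers_of_prime_sylow h.card y.2 hy
  have hC : Subgroup.centralizer ({(y : G)} : Set G) = Subgroup.zpowers (y : G) := by
    rw [h.cent_eq hy, hCP, hzP]
  have hP : Nat.card ↥(P : Subgroup G) = p := h.card
  have hN : Nat.card (Subgroup.normalizer ((P : Subgroup G) : Set G)) = 2 * p := by
    rw [← h.frob.card_centralizer_inf, hCP, hP]
  have hsyl : 2 * Nat.card (Sylow p G) = (p - 1) * (p - 2) := by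
    have h1 := Subgroup.index_mul_card (Subgroup.normalizer ((P : Subgroup G) : Set G))
    have e : Nat.card (Sylow p G) = (Subgroup.normalizer ((P : Subgroup G) : Set G)).index :=
      Sylow.card_eq_index_normalizer P
    rw [hN, hcardG, ← e] at h1
    refine Nat.eq_of_mul_eq_mul_left hp.pos ?_
    linear_combination h1
  obtain ⟨n, hn⟩ := Solv.BReyn.exists_count (G := G) (p := p)
  have hF : ¬ Solv.BReyn.Exceptional p n := by
    refine Solv.BReyn.not_exceptional ?_
    rw [hn] at hsyl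
    have h1 : (p - 1) * (p - 2) < (p + 3) * p := by
      calc (p - 1) * (p - 2) ≤ p * p := Nat.mul_le_mul (Nat.sub_le _ _) (Nat.sub_le _ _)
        _ < (p + 3) * p := Nat.mul_lt_mul_of_pos_right (by omega) hp.pos
    have h2 : 2 * n * p < (p + 3) * p := by
      calc 2 * n * p ≤ 2 * (n * p + 1) := by rw [mul_assoc]; omega
        _ = (p - 1) * (p - 2) := hsyl
        _ < _ := h1
    exact Nat.lt_of_mul_lt_mul_right h2
  obtain ⟨hKp, hmax⟩ := Solv.BReyn.core_spec (G := G) (p := p)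
  obtain ⟨hc, hle⟩ := Solv.BReyn.reduce hperf P h.card hn hF (pPrimeCore p G) hKp hmax
  have hK : pPrimeCore p G = ⊥ := by
    rw [← le_bot_iff]
    intro k hk
    have h1 : k ∈ Subgroup.zpowers (y : G) := by
      rw [← hC, Subgroup.mem_centralizer_singleton_iff]
      exact Solv.BReyn.commute_of_le_normalizer P _ hKp hle hk y.2
    have h2 := orderOf_dvd_of_mem_zpowers h1
    rw [h.orderOf_eq hy] at h2
    rcases (Nat.dvd_prime hp).mp h2 with h3 | h3
    · exact Subgroup.mem_bot.mpr (orderOf_eq_one_iff.mp h3)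
    · exfalso
      refine hKp ?_
      have h4 : orderOf (⟨k, hk⟩ : pPrimeCore p G) = p := (Subgroup.orderOf_mk k hk).trans h3
      have h5 := orderOf_dvd_natCard (⟨k, hk⟩ : pPrimeCore p G)
      rwa [h4] at h5
  exact ⟨hperf, hc.congr ((QuotientGroup.quotientBot (G := G)).symm.trans
    (QuotientGroup.quotientMulEquivOfEq hK.symm)), hcardG⟩

/-- Splitting off a centre met trivially by the kernel of a linear character. -/
theorem exists_split (Z : Subgroup G) [Z.Normal] (hZ : Z ≤ Subgroup.center G)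
    (hperf : commutator (G ⧸ Z) = ⊤) (l : G →* ℂˣ) (hl : ∀ z ∈ Z, l z = 1 → z = 1) :
    Nonempty (G ≃* (G ⧸ Z) × Z) := by
  have hsurj : Function.Surjective (QuotientGroup.mk' Z) := QuotientGroup.mk'_surjective Z
  have hker : commutator G ≤ l.ker := Abelianization.commutator_subset_ker l
  have hmap : (commutator G).map (QuotientGroup.mk' Z) = ⊤ := by
    rw [eq_top_iff, ← hperf, commutator_def, commutator_def, Subgroup.map_commutator,
      Subgroup.map_top_of_surjective _ hsurj]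
  let π : ↥(commutator G) →* G ⧸ Z := (QuotientGroup.mk' Z).comp (commutator G).subtype
  have hπ : Function.Bijective π := by
    refine ⟨(injective_iff_map_eq_one π).mpr fun a ha => ?_, fun q => ?_⟩
    · exact Subtype.ext (hl _ ((QuotientGroup.eq_one_iff _).mp ha) (hker a.2))
    · obtain ⟨a, ha, e⟩ : q ∈ (commutator G).map (QuotientGroup.mk' Z) := hmap ▸ Subgroup.mem_top q
      exact ⟨⟨a, ha⟩, e⟩
  let φ : ↥(commutator G) × Z →* G := MonoidHom.noncommCoprod (commutator G).subtype Z.subtype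
    fun a z => (Subgroup.mem_center_iff.mp (hZ z.2) (a : G))
  have hφ : Function.Bijective φ := by
    refine ⟨(injective_iff_map_eq_one φ).mpr fun x hx => ?_, fun g => ?_⟩
    · have e : (x.1 : G) * (x.2 : G) = 1 := hx
      have h2 : l (x.2 : G) = 1 := by
        have := congrArg l e
        rwa [map_mul, MonoidHom.mem_ker.mp (hker x.1.2), one_mul, map_one] at this
      have h3 : (x.2 : G) = 1 := hl _ x.2.2 h2
      rw [h3, mul_one] at e
      exact Prod.ext (Subtype.ext e) (Subtype.ext h3)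
    · obtain ⟨a, ha⟩ := hπ.2 (g : G ⧸ Z)
      refine ⟨(a, ⟨(a : G)⁻¹ * g, QuotientGroup.eq.mp ha⟩), ?_⟩
      show (a : G) * ((a : G)⁻¹ * g) = g
      rw [mul_inv_cancel_left]
  exact ⟨(MulEquiv.ofBijective φ hφ).symm.trans
    (MulEquiv.prodCongr (MulEquiv.ofBijective π hπ) (MulEquiv.refl Z))⟩

/-- The theorem. -/
theorem main (h5 : 5 < p) (P₀ : Sylow p G) (hP₀ : Nat.card P₀ = p)
    (hnn : ¬ (P₀ : Subgroup G).Normal) (χ : IrrCharacter G)
    (hf : ∀ g : G, (χ : G → ℂ) g = (χ : G → ℂ) 1 → g = 1) (hdeg : deg (χ : G → ℂ) = p - 2) :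
    ∃ (a : ℕ) (F : Type) (_ : Field F) (_ : Fintype F), p = 2 ^ a + 1 ∧ Fintype.card F = 2 ^ a ∧
      Nonempty (G ≃* Matrix.SpecialLinearGroup (Fin 2) F × Subgroup.center G) := by
  obtain ⟨P, h⟩ := exists_ctx h5 P₀ hP₀ hnn χ hf hdeg
  obtain ⟨l, hl⟩ := h.exists_linear
  haveI : Fintype (G ⧸ Subgroup.center G) := Fintype.ofFinite _
  obtain ⟨hcen, Q, ξ, hQ⟩ := h.exists_quotient l hl
  obtain ⟨hperf, hc, hcard⟩ := hQ.concl hcen
  obtain ⟨i⟩ := exists_split (Subgroup.center G) le_rfl hperf l fun z hz e => by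
    refine h.faith_center ?_
    rw [← hl z hz, e, Units.val_one]
  rcases hc with ⟨F, iF, iF', hF, hp3, ⟨j⟩⟩ | ⟨m, F, iF, iF', hF, hpm, -, ⟨j⟩⟩
  · exfalso
    have h1 := Cfsg.Agent.Classical.Dickson.card_psl F
    have h2 : Nat.gcd 2 (Fintype.card F - 1) = 2 := by
      refine Nat.gcd_eq_left ?_
      obtain ⟨k, hk⟩ := (Fact.out : p.Prime).odd_of_ne_two (by omega)
      rw [hF, hk]
      exact ⟨k, by omega⟩
    rw [h2, hF, ← Nat.card_congr j.toEquiv, hcard] at h1
    obtain ⟨q, rfl⟩ : ∃ q, p = q + 6 := ⟨p - 6, by omega⟩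
    rw [show (q + 6) ^ 2 - 1 = (q + 5) * (q + 7) by
      rw [Nat.sub_eq_iff_eq_add (by nlinarith)]; ring,
      show q + 6 - 1 = q + 5 by omega, show q + 6 - 2 = q + 4 by omega] at h1
    have h3 : (q + 6) * ((q + 5) * (q + 7)) < (q + 6) * ((q + 5) * ((q + 4) * 2)) :=
      Nat.mul_lt_mul_of_pos_left (Nat.mul_lt_mul_of_pos_left (by omega) (by omega)) (by omega)
    linarith
  · exact ⟨m, F, iF, iF', hpm, hF, ⟨i.trans (MulEquiv.prodCongr j (MulEquiv.refl _))⟩⟩

end Cfsg.Agent.Char.PSubTwo
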