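import Cfsg.Agent.Lib.Char.PSubTwo.Principal
import Cfsg.Agent.Lib.Char.SmallOrderGraph.Block

/-!
# Faithful degree `p - 2` with trivial centre: the group order

The group is perfect of order `p (p - 1) (p - 2)`.
-/

set_option autoImplicit false
set_option linter.unusedSectionVars false
set_option linter.style.haveILetI false

open Cfsg
open scoped ComplexConjugate Classical

namespace Cfsg.Agent.Char.PSubTwo

universe u

variable {G : Type u} [Group G] [Fintype G] {p : ℕ} [Fact p.Prime] {P : Sylow p G}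
  [Fintype (↥(P : Subgroup G) →* ℂˣ)] {χ : IrrCharacter G}

theorem unit_apply (g : G) : (unit G : G → ℂ) g = 1 := rfl

section

variable (h : Ctx P χ) {l : ↥(P : Subgroup G) →* ℂˣ} (hl : l ≠ 1)
include h hl

theorem Ctx.orbSum_ne_zero {y : ↥(P : Subgroup G)} (hy : (y : G) ≠ 1) : orbSum l y ≠ 0 := by
  rw [h.orbSum_eq hl]
  intro h0
  set z := ((l y : ℂˣ) : ℂ) with hz
  have h1 : z * conj z = 1 := by
    rw [hz, ← char_inv (isCharacter_linear l) y, map_inv, ← Units.val_mul, mul_inv_cancel,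
      Units.val_one]
  have h2 : z ^ 4 = 1 := by
    have : z * z = -1 := by linear_combination z * h0 - h1
    linear_combination (z * z - 1) * this
  have hpz := h.lin_pow_p l y
  refine h.lin_ne_one hl hy (orderOf_eq_one_iff.mp (Nat.eq_one_of_dvd_coprimes (a := 4) (b := p) ?_
    (orderOf_dvd_of_pow_eq_one (Units.ext ?_)) (orderOf_dvd_of_pow_eq_one (Units.ext ?_))))
  · rw [show (4 : ℕ) = 2 ^ 2 by norm_num]
    exact Nat.Coprime.pow_left 2 (Nat.coprime_two_left.mpr
      ((Fact.out : p.Prime).odd_of_ne_two (by have := h.five; omega)))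
  · rw [Units.val_pow_eq_pow_val, Units.val_one]; exact h2
  · rw [Units.val_pow_eq_pow_val, Units.val_one]; exact hpz

theorem Ctx.mul_self_ne_one : l * l ≠ 1 := fun e =>
  h.lin_inv_ne hl (MonoidHom.ext fun y => inv_eq_of_mul_eq_one_left (DFunLike.congr_fun e y))

theorem Ctx.orbSum_sq (y : ↥(P : Subgroup G)) : orbSum l (y * y) = orbSum (l * l) y := by
  rw [h.orbSum_eq hl, h.orbSum_eq (h.mul_self_ne_one hl), map_mul, MonoidHom.mul_apply]

theorem Ctx.sum_orbSum_one : ∑ y ∈ nonOne P, orbSum l y = -2 := by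
  rw [FrobSylow.sum_nonOne, h.frob.sum_orbSum hl, h.frob.orbSum_one hl]
  push_cast
  ring

theorem Ctx.sum_orbSum_two : ∑ y ∈ nonOne P, orbSum l y * orbSum l y = 2 * (p : ℂ) - 4 := by
  have hl2 := h.mul_self_ne_one hl
  rw [Finset.sum_congr rfl fun y _ => by rw [h.orbSum_mul_self hl, h.orbSum_sq hl],
    Finset.sum_add_distrib, h.sum_orbSum_one hl2, FrobSylow.sum_nonOne, Finset.sum_const,
    Finset.card_univ, ← Nat.card_eq_fintype_card, h.card, nsmul_eq_mul]
  ring

theorem Ctx.sum_orbSum_three :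
    ∑ y ∈ nonOne P, orbSum l y * orbSum l y * orbSum l y = -8 := by
  have hl2 := h.mul_self_ne_one hl
  have e : ∀ y : ↥(P : Subgroup G), orbSum l y * orbSum l y * orbSum l y =
      2 * orbSum l y + orbSum (l * l) y * conj (orbSum l y) := fun y => by
    rw [h.orbSum_mul_self hl, h.orbSum_sq hl, h.conj_orbSum hl]
    ring
  rw [Finset.sum_congr rfl fun y _ => e y, Finset.sum_add_distrib, ← Finset.mul_sum,
    h.sum_orbSum_one hl, FrobSylow.sum_nonOne, h.frob.sum_orbSum_mul, h.frob.orbSum_one hl,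
    h.frob.orbSum_one hl2, Finset.card_eq_zero.mpr ?_]
  · simp only [Nat.cast_zero, mul_zero, zero_sub, map_natCast]
    norm_num
  · rw [h.orbP_eq hl, h.orbP_eq hl2, Finset.eq_empty_iff_forall_notMem]
    intro x hx
    simp only [Finset.mem_inter, Finset.mem_insert, Finset.mem_singleton] at hx
    obtain ⟨y, hy⟩ := h.exists_nonOne
    have h3 : ∀ w : ℂˣ, w * w * w = 1 → w ^ p = 1 → w = 1 := fun w hw hw' =>
      orderOf_eq_one_iff.mp (Nat.eq_one_of_dvd_coprimes (a := 3) (b := p)
        ((Nat.coprime_primes Nat.prime_three Fact.out).mpr (by have := h.five; omega))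
        (orderOf_dvd_of_pow_eq_one (by rw [pow_succ, pow_two]; exact hw))
        (orderOf_dvd_of_pow_eq_one hw'))
    have hpy : l y ^ p = 1 := Units.ext (by rw [Units.val_pow_eq_pow_val, h.lin_pow_p, Units.val_one])
    have hne := h.lin_ne_one hl hy
    obtain ⟨h1, h2⟩ := hx
    rcases h1 with rfl | rfl <;> rcases h2 with e | e <;>
      have e' := DFunLike.congr_fun e y <;>
      simp only [MonoidHom.mul_apply, MonoidHom.inv_apply] at e'
    · exact hne (mul_eq_left.mp e')
    · exact hne (h3 _ (by rw [e', inv_mul_cancel]) hpy)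
    · exact hne (h3 _ (by
        have := congrArg (· * (l y * l y)) e'
        simp only [inv_mul_cancel] at this
        rw [mul_assoc]; exact this.symm) hpy)
    · exact hne (mul_eq_left.mp (inv_injective e'))

end

variable {r : ℕ} {rep : Fin r → (↥(P : Subgroup G) →* ℂˣ)}
  {idx : (↥(P : Subgroup G) →* ℂˣ) → Fin r} {fam : Fin r → IrrCharacter G} {i₀ : Fin r}
  (D : Data P χ rep idx fam i₀) (hZ : Subgroup.center G = ⊥)
include D hZ

theorem Data.mem_all (ξ₀ ξ : IrrCharacter G) : ξ ∈ lvl ξ₀ :=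
  mem_lvl.mpr fun z hz => by
    rw [hZ, Subgroup.mem_bot] at hz
    rw [hz, cw_one, cw_one]

theorem Data.centralizer_eq :
    Subgroup.centralizer ((P : Subgroup G) : Set G) = (P : Subgroup G) := by
  refine le_antisymm (fun c hc => ?_) D.ctx.frob.le_centralizer
  obtain ⟨y, hy, z, hz, rfl⟩ := D.ctx.decomp hc
  rw [hZ, Subgroup.mem_bot] at hz
  rwa [hz, mul_one]

/-- The characters which do not vanish on `P#`. -/
theorem Data.exists_shape : ∃ a : IrrCharacter G, deg (a : G → ℂ) = p - 1 ∧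
    (∀ y : ↥(P : Subgroup G), (y : G) ≠ 1 → (a : G → ℂ) y = -1) ∧
    (∀ g : G, ¬ p ∣ orderOf g → (a : G → ℂ) g = 1 + (χ : G → ℂ) g) ∧
    ∀ (ξ : IrrCharacter G) (y : ↥(P : Subgroup G)), (y : G) ≠ 1 → (ξ : G → ℂ) y ≠ 0 →
      ξ = a ∨ ξ = unit G ∨ ∃ i, fam i = ξ := by
  have h := D.ctx
  have h5 := h.five
  obtain ⟨a, b, k, hC⟩ := D.exists_companions
  have hb : b = unit G := by
    obtain ⟨y, hy⟩ := h.exists_nonOne
    by_contra hne
    have h1 := hC.rest (unit G) (D.mem_all hZ χ _) (fun i e => ?_) (fun e => ?_) (Ne.symm hne) y hy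
    · exact one_ne_zero h1
    · have h2 := D.isFam.apply_one h i
      rw [e, char_one_eq_deg (irr_isCharacter χ.2), h.degree, unit_apply] at h2
      have h3 : p - 2 = 1 := by exact_mod_cast h2.symm
      omega
    · have h2 := hC.a_val y hy
      rw [← e] at h2
      norm_num [unit] at h2
  subst hb
  have hk : k = 0 := by
    have h1 := char_one_eq_deg (irr_isCharacter (unit G).2)
    rw [hC.b_deg, unit_apply] at h1
    have h2 : k * p + 1 = 1 := by exact_mod_cast h1.symm
    exact (Nat.mul_eq_zero.mp (Nat.succ_injective h2 : k * p = 0)).resolve_right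
      (Fact.out : p.Prime).ne_zero
  refine ⟨a, ?_, hC.a_val, hC.rel, fun ξ y hy hne => ?_⟩
  · have := hC.a_deg
    rw [hk] at this
    omega
  · by_contra hno
    push Not at hno
    exact hne (hC.rest ξ (D.mem_all hZ χ _) hno.2.2 hno.1 hno.2.1 y hy)

theorem Data.perfect : commutator G = ⊤ := by
  have h5 := D.ctx.five
  obtain ⟨y, hy⟩ := D.ctx.exists_nonOne
  obtain ⟨a, ha, -, -, hall⟩ := D.exists_shape hZ
  rw [eq_top_iff]
  intro g _
  by_contra hg
  obtain ⟨l, hl⟩ : ∃ l : G →* ℂˣ, l g ≠ 1 := by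
    by_contra hno
    push Not at hno
    exact hg (mem_commutator_of_forall_linear hno)
  have hd : deg (fun g => ((l g : ℂˣ) : ℂ)) = 1 := by
    have := char_one_eq_deg (isCharacter_linear l)
    rw [map_one, Units.val_one] at this
    exact_mod_cast this.symm
  rcases hall ⟨_, isIrrCharacter_linear l⟩ y hy (Units.ne_zero _) with e | e | ⟨i, e⟩
  · rw [← e] at ha
    simp only [hd] at ha
    omega
  · exact hl (Units.ext (congrFun (congrArg Subtype.val e) g))
  · have h1 := D.isFam.apply_one D.ctx i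
    rw [e, char_one_eq_deg (irr_isCharacter χ.2), D.ctx.degree] at h1
    simp only [map_one, Units.val_one] at h1
    have h3 : 1 = p - 2 := by exact_mod_cast h1
    omega

theorem Data.int_regular {g : G} (hg : ¬ p ∣ orderOf g) : ∃ z : ℤ, (χ : G → ℂ) g = z := by
  have h := D.ctx
  have h5 := h.five
  refine SmallOrderGraph.int_of_pow_fixed (irr_isCharacter χ.2) fun k hk => ?_
  obtain ⟨l₀, hl₀, hv⟩ := h.exists_l₀
  obtain ⟨y, hy⟩ := h.exists_nonOne
  obtain ⟨a, ha, -, -, hall⟩ := D.exists_shape hZ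
  have hyk : ((y ^ k : ↥(P : Subgroup G)) : G) ≠ 1 :=
    mem_nonOne.mp (SmallOrderGraph.pow_mem_nonOne h.card (mem_nonOne.mpr hy) hk)
  set ξ := SmallOrderGraph.galConj χ hk with hξ
  have hξ1 : (ξ : G → ℂ) 1 = ((p - 2 : ℕ) : ℂ) := by
    rw [hξ, SmallOrderGraph.galConj_apply, one_pow, char_one_eq_deg (irr_isCharacter χ.2), h.degree]
  have hne : (ξ : G → ℂ) y ≠ 0 := by
    rw [hξ, SmallOrderGraph.galConj_apply, ← SubmonoidClass.coe_pow, hv _ hyk, neg_ne_zero]
    exact h.orbSum_ne_zero hl₀ hyk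
  rcases hall ξ y hy hne with e | e | ⟨i, e⟩
  · rw [e, char_one_eq_deg (irr_isCharacter a.2), ha] at hξ1
    have h3 : p - 1 = p - 2 := by exact_mod_cast hξ1
    omega
  · rw [e, unit_apply] at hξ1
    have h3 : 1 = p - 2 := by exact_mod_cast hξ1
    omega
  · rw [← D.isFam.reg i g hg, e, hξ, SmallOrderGraph.galConj_apply]

theorem Data.card_eq : Nat.card G = p * (p - 1) * (p - 2) := by
  have h := D.ctx
  have h5 := h.five
  have hp : p.Prime := Fact.out
  obtain ⟨l, hl, hv⟩ := h.exists_l₀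
  obtain ⟨a, -, hay, harel, -⟩ := D.exists_shape hZ
  set f := (χ : G → ℂ) with hf
  have hcl := isClassFunction_character (irr_isCharacter χ.2)
  have hsec : ∀ (ξ : IrrCharacter G) (y : ↥(P : Subgroup G)), (y : G) ≠ 1 →
      ∀ v : Subgroup.centralizer ({(y : G)} : Set G), ¬ p ∣ orderOf v →
        (ξ : G → ℂ) ((y : G) * v) = (ξ : G → ℂ) y := by
    intro ξ y hy v hv
    have h1 := (h.apply_section ξ hy v hv).1
    rw [hZ, Subgroup.mem_bot] at h1
    rw [h1, mul_one]
  have hsing : ∀ F : G → ℂ, IsClassFunction G F →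
      (∀ y : ↥(P : Subgroup G), (y : G) ≠ 1 →
        ∀ v : Subgroup.centralizer ({(y : G)} : Set G), ¬ p ∣ orderOf v →
          F ((y : G) * v) = F y) → ∀ T : ℂ, ∑ y ∈ nonOne P, F (y : G) = T →
      ((p : ℂ) * 2) * (∑ g : G, F g - ∑ g : G with ¬ p ∣ orderOf g, F g) = (Nat.card G : ℂ) * T := by
    intro F hF hs T hT
    have h1 := h.frob.sum_singular_const hF hs
    rw [h.card, hT, Nat.cast_ofNat] at h1
    rw [← h1, ← Finset.sum_filter_add_sum_filter_not Finset.univ (fun g : G => p ∣ orderOf g),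
      add_sub_cancel_right]
  set R := Finset.univ.filter fun g : G => ¬ p ∣ orderOf g with hR
  have hreal : ∀ y : ↥(P : Subgroup G), (y : G) ≠ 1 → f y = -orbSum l y ∧ conj (f y) = -orbSum l y :=
    fun y hy => ⟨hv y hy, by rw [h.conj_apply]; exact hv y hy⟩
  -- first moment
  have h1 := hsing f hcl (hsec χ) 2 (by
    rw [Finset.sum_congr rfl fun y hy => (hreal y (mem_nonOne.mp hy)).1, Finset.sum_neg_distrib,
      h.sum_orbSum_one hl]
    norm_num)
  have hs1 : ∑ g : G, f g = 0 := by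
    have h2 := irrC_orth χ (unit G)
    rw [if_neg fun e => ?_, classInner, mul_eq_zero,
      or_iff_right (inv_ne_zero (Nat.cast_ne_zero.mpr Nat.card_pos.ne'))] at h2
    · simpa [unit] using h2
    · have h3 := char_one_eq_deg (irr_isCharacter χ.2)
      rw [h.degree, e, unit_apply] at h3
      have h4 : 1 = p - 2 := by exact_mod_cast h3
      omega
  -- second moment
  have h2 := hsing (fun g => f g * conj (f g)) (fun g k => by simp only [hf, hcl g k])
    (fun y hy v hv' => by simp only [hf, hsec χ y hy v hv']) (2 * (p : ℂ) - 4) (by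
    rw [Finset.sum_congr rfl fun y hy => by
      rw [(hreal y (mem_nonOne.mp hy)).1, map_neg, h.conj_orbSum hl, neg_mul_neg],
      h.sum_orbSum_two hl])
  have hs2 : ∑ g : G, f g * conj (f g) = (Nat.card G : ℂ) := by
    have h3 := irr_self χ.2
    rw [classInner, inv_mul_eq_one₀ (Nat.cast_ne_zero.mpr Nat.card_pos.ne')] at h3
    exact h3.symm
  -- third moments
  obtain ⟨N, hN⟩ := classInner_natCast (isCharacter_mul (irr_isCharacter χ.2)
    (isCharacter_conj (irr_isCharacter χ.2))) (irr_isCharacter χ.2)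
  obtain ⟨Q, hQ⟩ := classInner_natCast (isCharacter_mul (irr_isCharacter χ.2)
    (isCharacter_conj (irr_isCharacter χ.2))) (irr_isCharacter a.2)
  rw [classInner, inv_mul_eq_iff_eq_mul₀ (Nat.cast_ne_zero.mpr Nat.card_pos.ne')] at hN hQ
  simp only [Pi.mul_apply] at hN hQ
  have h3 := hsing (fun g => f g * conj (f g) * conj (f g)) (fun g k => by simp only [hf, hcl g k])
    (fun y hy v hv' => by simp only [hf, hsec χ y hy v hv']) 8 (by
    rw [Finset.sum_congr rfl (g := fun y => -(orbSum l y * orbSum l y * orbSum l y)) fun y hy => by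
      rw [(hreal y (mem_nonOne.mp hy)).1, map_neg, h.conj_orbSum hl]; ring,
      Finset.sum_neg_distrib, h.sum_orbSum_three hl]
    norm_num)
  have h4 := hsing (fun g => f g * conj (f g) * conj (1 + f g - (a : G → ℂ) g))
    (fun g k => by
      simp only [hf, hcl g k, isClassFunction_character (irr_isCharacter a.2) g k])
    (fun y hy v hv' => by simp only [hf, hsec χ y hy v hv', hsec a y hy v hv']) (4 * (p : ℂ)) (by
    rw [Finset.sum_congr rfl (g := fun y => 2 * (orbSum l y * orbSum l y) -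
        orbSum l y * orbSum l y * orbSum l y) fun y hy => by
      rw [(hreal y (mem_nonOne.mp hy)).1, hay y (mem_nonOne.mp hy)]
      simp only [map_neg, map_add, map_sub, map_one, h.conj_orbSum hl]
      ring,
      Finset.sum_sub_distrib, ← Finset.mul_sum, h.sum_orbSum_two hl, h.sum_orbSum_three hl]
    ring)
  have hs4 : ∑ g : G, f g * conj (f g) * conj (1 + f g - (a : G → ℂ) g) =
      (Nat.card G : ℂ) * (1 + (N : ℂ) - Q) := by
    simp only [map_sub, map_add, map_one, mul_sub, mul_add, mul_one, Finset.sum_sub_distrib,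
      Finset.sum_add_distrib, hN, hQ, hf]
    rw [show ∑ g : G, (χ : G → ℂ) g * conj ((χ : G → ℂ) g) = (Nat.card G : ℂ) from hs2]
  have hR4 : ∑ g ∈ R, f g * conj (f g) * conj (1 + f g - (a : G → ℂ) g) = 0 :=
    Finset.sum_eq_zero fun g hg => by
      rw [harel g (Finset.mem_filter.mp hg).2, sub_self, map_zero, mul_zero]
  rw [hs4, hR4, sub_zero] at h4
  have hG : (Nat.card G : ℂ) ≠ 0 := Nat.cast_ne_zero.mpr Nat.card_pos.ne'
  have hpC : (p : ℂ) ≠ 0 := Nat.cast_ne_zero.mpr hp.ne_zero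
  have hNQ : (N : ℂ) = Q + 1 := by
    refine mul_left_cancel₀ (mul_ne_zero hG hpC) ?_
    linear_combination h4 / 2
  -- the values on the regular elements
  have hzex : ∀ g : G, ∃ z : ℤ, ¬ p ∣ orderOf g → f g = z := fun g => by
    by_cases hg : p ∣ orderOf g
    · exact ⟨0, fun e => absurd hg e⟩
    · obtain ⟨z, hz⟩ := D.int_regular hZ hg
      exact ⟨z, fun _ => hz⟩
  choose z hz using hzex
  have hz' : ∀ g ∈ R, f g = z g ∧ conj (f g) = z g := fun g hg => by
    have := hz g (Finset.mem_filter.mp hg).2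
    exact ⟨this, by rw [this, map_intCast]⟩
  have hle : ∀ g ∈ R, z g ≤ (p : ℤ) - 2 := fun g hg => by
    have h6 := char_norm_le (irr_isCharacter χ.2) g
    rw [← hf, (hz' g hg).1, hf, char_one_eq_deg (irr_isCharacter χ.2), h.degree, Complex.norm_intCast,
      Complex.natCast_re] at h6
    have h7 : (z g : ℝ) ≤ ((p - 2 : ℕ) : ℝ) := le_trans (le_abs_self _) h6
    have h8 : z g ≤ ((p - 2 : ℕ) : ℤ) := by exact_mod_cast h7
    omega
  have key : ((∑ g ∈ R, z g * (z g + 1) * (((p : ℤ) - 2) - z g) : ℤ) : ℂ) =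
      -((Nat.card G : ℂ) * (Q : ℂ)) := by
    push_cast
    rw [Finset.sum_congr rfl (g := fun g => ((p : ℂ) - 3) * (f g * conj (f g)) +
      ((p : ℂ) - 2) * f g - f g * conj (f g) * conj (f g)) fun g hg => by
      rw [(hz' g hg).2, (hz' g hg).1]; ring,
      Finset.sum_sub_distrib, Finset.sum_add_distrib, ← Finset.mul_sum, ← Finset.mul_sum]
    rw [hs1, zero_sub] at h1
    rw [hs2] at h2
    rw [hf, hN, ← hf] at h3
    refine mul_left_cancel₀ (mul_ne_zero hpC two_ne_zero) ?_
    linear_combination (2 * (p : ℂ) * (Nat.card G : ℂ)) * (-hNQ) + h3 - ((p : ℂ) - 3) * h2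
      - ((p : ℂ) - 2) * h1
  have hterm : ∀ g ∈ R, 0 ≤ z g * (z g + 1) * (((p : ℤ) - 2) - z g) := fun g hg => by
    refine mul_nonneg ?_ (by have := hle g hg; omega)
    rcases le_or_gt 0 (z g) with h' | h'
    · exact mul_nonneg h' (by omega)
    · exact mul_nonneg_of_nonpos_of_nonpos (le_of_lt h') (by omega)
  have hQ0 : ∑ g ∈ R, z g * (z g + 1) * (((p : ℤ) - 2) - z g) = 0 := by
    have h6 : ∑ g ∈ R, z g * (z g + 1) * (((p : ℤ) - 2) - z g) = -((Nat.card G : ℤ) * Q) := by
      exact_mod_cast key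
    have h7 := Finset.sum_nonneg hterm
    have h8 : (0 : ℤ) ≤ (Nat.card G : ℤ) * Q := mul_nonneg (Int.natCast_nonneg _) (Int.natCast_nonneg _)
    omega
  have hz01 : ∀ g ∈ R, g ≠ 1 → z g * (z g + 1) = 0 := fun g hg hg1 => by
    refine (mul_eq_zero.mp ((Finset.sum_eq_zero_iff_of_nonneg hterm).mp hQ0 g hg)).resolve_right
      fun e => hg1 (h.faith g ?_)
    rw [← hf, (hz' g hg).1, show z g = ((p - 2 : ℕ) : ℤ) by omega, hf,
      char_one_eq_deg (irr_isCharacter χ.2), h.degree]
    norm_cast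
  have hfin : ∑ g ∈ R, f g * (conj (f g) + 1) = ((p - 2 : ℕ) : ℂ) * (((p - 2 : ℕ) : ℂ) + 1) := by
    rw [Finset.sum_eq_single (1 : G)]
    · rw [hf, char_one_eq_deg (irr_isCharacter χ.2), h.degree, map_natCast]
    · intro g hg hg1
      rw [(hz' g hg).2, (hz' g hg).1]
      exact_mod_cast hz01 g hg hg1
    · intro h1'
      exact absurd (Finset.mem_filter.mpr ⟨Finset.mem_univ _, by simp [hp.ne_one]⟩) h1'
  simp only [mul_add, mul_one, Finset.sum_add_distrib] at hfin
  rw [hs1, zero_sub] at h1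
  rw [hs2] at h2
  push_cast [Nat.cast_sub (by omega : 2 ≤ p)] at hfin
  have hfinal : (Nat.card G : ℂ) = (p : ℂ) * ((p : ℂ) - 1) * ((p : ℂ) - 2) := by
    refine mul_left_cancel₀ (two_ne_zero (α := ℂ)) ?_
    linear_combination h2 + h1 + 2 * (p : ℂ) * hfin
  rw [← Nat.cast_inj (R := ℂ), hfinal]
  push_cast [Nat.cast_sub (by omega : 2 ≤ p), Nat.cast_sub (by omega : 1 ≤ p)]
  ring

end Cfsg.Agent.Char.PSubTwo
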