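import Cfsg.Agent.Lib.Char.PSubTwo.CentralSum

/-!
# Faithful degree `p - 2`: the two companions of the family

Among the characters with the central character of `χ` exactly two more do not vanish on `P#`: one takes the
value `1`, the other `-1`, and their difference is `χ` on the regular elements.
-/

set_option autoImplicit false
set_option linter.unusedSectionVars false
set_option linter.style.haveILetI false

open Cfsg
open scoped ComplexConjugate Classical

namespace Cfsg.Agent.Char.PSubTwo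

universe u

variable {G : Type u} [Group G] [Fintype G] {p : ℕ} [Fact p.Prime] {P : Sylow p G}
  [Fintype (↥(P : Subgroup G) →* ℂˣ)] {χ : IrrCharacter G} {r : ℕ}
  {rep : Fin r → (↥(P : Subgroup G) →* ℂˣ)} {idx : (↥(P : Subgroup G) →* ℂˣ) → Fin r}
  {fam : Fin r → IrrCharacter G} {i₀ : Fin r}

/-- All the data of the family. -/
structure Data (P : Sylow p G) [Fintype (↥(P : Subgroup G) →* ℂˣ)] (χ : IrrCharacter G)
    (rep : Fin r → (↥(P : Subgroup G) →* ℂˣ)) (idx : (↥(P : Subgroup G) →* ℂˣ) → Fin r)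
    (fam : Fin r → IrrCharacter G) (i₀ : Fin r) : Prop where
  ctx : Ctx P χ
  orbit : OrbitIndex 2 rep idx
  isFam : Fam χ rep fam
  base : fam i₀ = χ

variable (D : Data P χ rep idx fam i₀)
include D

theorem Data.fam_mem (i : Fin r) : fam i ∈ lvl χ :=
  mem_lvl.mpr fun _ hz => D.isFam.cw_eq D.ctx i hz

theorem Data.lmult_const {ξ : IrrCharacter G} (hξ : ξ ∈ lvl χ) (hne : ∀ i, fam i ≠ ξ)
    {l : ↥(P : Subgroup G) →* ℂˣ} (hl : l ≠ 1) : lmult ξ l = lmult ξ (rep i₀) := by
  have hrep : ∀ i, lmult ξ (rep i) = lmult ξ (rep i₀) := by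
    intro i
    set F : G → ℂ := fun g => ((fam i : G → ℂ) g - (fam i₀ : G → ℂ) g) * conj ((ξ : G → ℂ) g)
      with hF
    have hcl : IsClassFunction G F := fun g k => by
      simp only [hF, isClassFunction_character (irr_isCharacter (fam i).2) g k,
        isClassFunction_character (irr_isCharacter (fam i₀).2) g k,
        isClassFunction_character (irr_isCharacter ξ.2) g k]
    have hsing := D.ctx.frob.sum_singular_const hcl fun y hy v hv => by
      obtain ⟨hz, e⟩ := D.ctx.apply_section ξ hy v hv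
      simp only [hF, e, (D.ctx.apply_section (fam i) hy v hv).2,
        (D.ctx.apply_section (fam i₀) hy v hv).2, map_mul, D.isFam.cw_eq D.ctx _ hz,
        mem_lvl.mp hξ _ hz]
      linear_combination
        (((fam i : G → ℂ) y - (fam i₀ : G → ℂ) y) * conj ((ξ : G → ℂ) y)) * cw_mul_conj χ hz
    have hzero : ∑ g : G with p ∣ orderOf g, F g = 0 := by
      rw [Finset.sum_filter_of_ne fun g _ hg => ?_]
      · have h1 := irrC_orth (fam i) ξ
        have h2 := irrC_orth (fam i₀) ξ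
        rw [if_neg (hne _), classInner, mul_eq_zero,
          or_iff_right (inv_ne_zero (Nat.cast_ne_zero.mpr Nat.card_pos.ne'))] at h1 h2
        simp only [hF, sub_mul, Finset.sum_sub_distrib, h1, h2, sub_zero]
      · by_contra hr
        refine hg ?_
        simp only [hF, D.isFam.reg _ g hr, sub_self, zero_mul]
    rw [hzero, mul_zero, eq_comm, mul_eq_zero,
      or_iff_right (Nat.cast_ne_zero.mpr Nat.card_pos.ne'),
      Finset.sum_congr rfl (g := fun y => (orbSum (rep i₀) y - orbSum (rep i) y) *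
        conj ((ξ : G → ℂ) y)) fun y hy => by
          simp only [hF, D.isFam.val _ y (mem_nonOne.mp hy)]
          ring,
      FrobSylow.sum_nonOne, D.ctx.frob.orbSum_one (D.orbit.rep_ne i₀),
      D.ctx.frob.orbSum_one (D.orbit.rep_ne i), sub_self, zero_mul, sub_zero] at hsing
    have hS : ∀ l : ↥(P : Subgroup G) →* ℂˣ, l ≠ 1 →
        ∑ y : ↥(P : Subgroup G), orbSum l y * conj ((ξ : G → ℂ) y) =
          2 * ((Nat.card P : ℂ) * lmult ξ l) := by
      intro l hl
      have h1 : ∀ l : ↥(P : Subgroup G) →* ℂˣ,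
          ∑ y : ↥(P : Subgroup G), ((l y : ℂˣ) : ℂ) * conj ((ξ : G → ℂ) y) =
            (Nat.card P : ℂ) * lmult ξ l := fun l => by
        have h2 := congrArg conj (lmult_spec ξ l)
        rw [map_sum, map_mul, map_natCast, map_natCast] at h2
        rw [← h2]
        exact Finset.sum_congr rfl fun y _ => by rw [map_mul, Complex.conj_conj, mul_comm]
      simp only [orbSum, Finset.sum_mul]
      rw [Finset.sum_comm, D.ctx.orbP_eq hl, Finset.sum_pair (D.ctx.lin_inv_ne hl).symm, h1, h1,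
        D.ctx.lmult_inv]
      ring
    simp only [sub_mul, Finset.sum_sub_distrib] at hsing
    rw [hS _ (D.orbit.rep_ne i₀), hS _ (D.orbit.rep_ne i), sub_eq_zero] at hsing
    exact_mod_cast (mul_left_cancel₀ (Nat.cast_ne_zero.mpr Nat.card_pos.ne')
      (mul_left_cancel₀ two_ne_zero hsing)).symm
  have h1 := D.orbit.mem l hl
  rw [D.ctx.orbP_eq (D.orbit.rep_ne _), Finset.mem_insert, Finset.mem_singleton] at h1
  rcases h1 with e | e
  · rw [e, hrep]
  · rw [e, D.ctx.lmult_inv, hrep]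

/-- A character outside the family is a rational integer on `P#`. -/
theorem Data.other_val {ξ : IrrCharacter G} (hξ : ξ ∈ lvl χ) (hne : ∀ i, fam i ≠ ξ) :
    ∃ (k : ℤ) (c : ℕ), (∀ y : ↥(P : Subgroup G), (y : G) ≠ 1 → (ξ : G → ℂ) y = k) ∧
      (deg (ξ : G → ℂ) : ℤ) = k + p * c ∧
      (lmult ξ (1 : ↥(P : Subgroup G) →* ℂˣ) : ℤ) = k + c := by
  refine ⟨(lmult ξ (1 : ↥(P : Subgroup G) →* ℂˣ) : ℤ) - lmult ξ (rep i₀), lmult ξ (rep i₀),
    fun y hy => ?_, ?_, by ring⟩
  · have h0 := D.ctx.frob.sum_dual_apply y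
    rw [if_neg fun e => hy (by rw [e]; rfl), ← Finset.add_sum_erase _ _ (Finset.mem_univ 1),
      MonoidHom.one_apply, Units.val_one] at h0
    rw [D.ctx.expand, ← Finset.add_sum_erase _ _ (Finset.mem_univ 1), MonoidHom.one_apply,
      Units.val_one, mul_one, Finset.sum_congr rfl fun l hl => by
        rw [D.lmult_const hξ hne (Finset.mem_erase.mp hl).1], ← Finset.mul_sum,
      eq_neg_of_add_eq_zero_right h0]
    push_cast
    ring
  · have h1 := D.ctx.sum_lmult ξ
    rw [← Finset.add_sum_erase _ _ (Finset.mem_univ 1), Finset.sum_congr rfl fun l hl => by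
        rw [D.lmult_const hξ hne (Finset.mem_erase.mp hl).1], Finset.sum_const,
      Finset.card_erase_of_mem (Finset.mem_univ _), Finset.card_univ, ← Nat.card_eq_fintype_card,
      D.ctx.frob.finite_dual.2, D.ctx.card, smul_eq_mul] at h1
    rw [← h1]
    push_cast [Nat.cast_sub (Fact.out : p.Prime).one_le]
    ring

/-- The two companions. -/
structure Companions (χ : IrrCharacter G) (fam : Fin r → IrrCharacter G) (a b : IrrCharacter G)
    (k : ℕ) : Prop where
  a_mem : a ∈ lvl χ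
  b_mem : b ∈ lvl χ
  ne : a ≠ b
  a_out : ∀ i, fam i ≠ a
  b_out : ∀ i, fam i ≠ b
  a_deg : deg (a : G → ℂ) + 1 = (k + 1) * p
  b_deg : deg (b : G → ℂ) = k * p + 1
  b_fix : lmult b (1 : ↥(P : Subgroup G) →* ℂˣ) = k + 1
  a_val : ∀ y : ↥(P : Subgroup G), (y : G) ≠ 1 → (a : G → ℂ) y = -1
  b_val : ∀ y : ↥(P : Subgroup G), (y : G) ≠ 1 → (b : G → ℂ) y = 1
  rest : ∀ ξ ∈ lvl χ, (∀ i, fam i ≠ ξ) → ξ ≠ a → ξ ≠ b →
    ∀ y : ↥(P : Subgroup G), (y : G) ≠ 1 → (ξ : G → ℂ) y = 0
  rel : ∀ g : G, ¬ p ∣ orderOf g → (a : G → ℂ) g = (b : G → ℂ) g + (χ : G → ℂ) g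

theorem Data.exists_companions : ∃ (a b : IrrCharacter G) (k : ℕ),
    Companions (P := P) χ fam a b k := by
  have h := D.ctx
  have hp : p.Prime := Fact.out
  set O := (lvl χ).filter fun ξ => ∀ i, fam i ≠ ξ with hO
  have hsplit : ∀ T : IrrCharacter G → ℂ, ∑ ξ ∈ lvl χ, T ξ = ∑ i, T (fam i) + ∑ ξ ∈ O, T ξ := by
    intro T
    rw [← Finset.sum_filter_not_add_sum_filter (lvl χ) (fun ξ => ∀ i, fam i ≠ ξ) T, ← hO]
    congr 1
    rw [← Finset.sum_image (f := T) (g := fam) fun i _ j _ e => D.isFam.inj e]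
    refine Finset.sum_congr ?_ fun _ _ => rfl
    ext ξ
    simp only [Finset.mem_filter, Finset.mem_image, Finset.mem_univ, true_and, not_forall, not_not]
    exact ⟨fun hξ => hξ.2, fun hξ => ⟨hξ.elim fun i e => e ▸ D.fam_mem i, hξ⟩⟩
  have hex : ∀ ξ : IrrCharacter G, ∃ (k : ℤ) (c : ℕ), ξ ∈ O →
      (∀ y : ↥(P : Subgroup G), (y : G) ≠ 1 → (ξ : G → ℂ) y = k) ∧
        (deg (ξ : G → ℂ) : ℤ) = k + p * c ∧
        (lmult ξ (1 : ↥(P : Subgroup G) →* ℂˣ) : ℤ) = k + c := fun ξ => by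
    by_cases hξ : ξ ∈ O
    · obtain ⟨k, c, h1⟩ := D.other_val (Finset.mem_filter.mp hξ).1 (Finset.mem_filter.mp hξ).2
      exact ⟨k, c, fun _ => h1⟩
    · exact ⟨0, 0, fun e => absurd e hξ⟩
  choose k c hkc using hex
  obtain ⟨y₀, hy₀⟩ := h.exists_nonOne
  have hnorm : ∑ ξ ∈ O, k ξ ^ 2 = 2 := by
    have h1 := h.lvl_norm χ hy₀
    rw [hsplit, Fam.sum_norm h D.orbit D.isFam hy₀] at h1
    have h2 : ((∑ ξ ∈ O, k ξ ^ 2 : ℤ) : ℂ) = ((2 : ℤ) : ℂ) := by
      push_cast
      rw [Finset.sum_congr rfl fun ξ hξ => by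
        rw [show (k ξ : ℂ) ^ 2 = (ξ : G → ℂ) y₀ * conj ((ξ : G → ℂ) y₀) by
          rw [(hkc ξ hξ).1 y₀ hy₀, map_intCast, pow_two]]]
      linear_combination h1
    exact_mod_cast h2
  have hle : ∀ ξ ∈ O, k ξ = 0 ∨ k ξ = 1 ∨ k ξ = -1 := fun ξ hξ => by
    have h1 := Finset.single_le_sum (f := fun ξ => k ξ ^ 2) (fun _ _ => sq_nonneg _) hξ
    rw [hnorm] at h1
    have : k ξ ≤ 1 ∧ -1 ≤ k ξ := by constructor <;> nlinarith
    omega
  have hcard : (O.filter fun ξ => k ξ ≠ 0).card = 2 := by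
    have h1 : ((O.filter fun ξ => k ξ ≠ 0).card : ℤ) = 2 := by
      rw [← hnorm, Finset.natCast_card_filter]
      refine Finset.sum_congr rfl fun ξ hξ => ?_
      rcases hle ξ hξ with e | e | e <;> simp [e]
    exact_mod_cast h1
  obtain ⟨a, b, hab, hset⟩ := Finset.card_eq_two.mp hcard
  have hrel : ∀ g : G, ¬ p ∣ orderOf g →
      (χ : G → ℂ) g + (k a : ℂ) * (a : G → ℂ) g + (k b : ℂ) * (b : G → ℂ) g = 0 := by
    intro g hg
    have h1 := h.lvl_orth χ hy₀ hg
    rw [hsplit, Finset.sum_congr rfl (s₁ := Finset.univ) (g := fun i => (χ : G → ℂ) g *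
        (fam i : G → ℂ) y₀) fun i _ => by rw [h.conj_apply, D.isFam.reg i g hg],
      ← Finset.mul_sum, Fam.sum_val h D.orbit D.isFam hy₀, mul_one,
      ← Finset.sum_subset (Finset.filter_subset (fun ξ => k ξ ≠ 0) O) fun ξ hξ hξ' => by
        have e : k ξ = 0 := by simpa [hξ] using hξ'
        rw [(hkc ξ hξ).1 y₀ hy₀, e, Int.cast_zero, map_zero, mul_zero],
      hset, Finset.sum_pair hab,
      (hkc a (Finset.mem_of_mem_filter a (hset ▸ Finset.mem_insert_self a {b}))).1 y₀ hy₀,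
      (hkc b (Finset.mem_of_mem_filter b (hset ▸ Finset.mem_insert_of_mem
        (Finset.mem_singleton_self b)))).1 y₀ hy₀, map_intCast, map_intCast] at h1
    linear_combination h1
  have hone : (deg (χ : G → ℂ) : ℤ) + k a * deg (a : G → ℂ) + k b * deg (b : G → ℂ) = 0 := by
    have h1 := hrel 1 (by simp [hp.ne_one])
    simp only [char_one_eq_deg (irr_isCharacter χ.2), char_one_eq_deg (irr_isCharacter a.2),
      char_one_eq_deg (irr_isCharacter b.2)] at h1
    exact_mod_cast h1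
  have hamem := hset ▸ Finset.mem_insert_self a {b}
  have hbmem := hset ▸ Finset.mem_insert_of_mem (a := b) (b := a) (Finset.mem_singleton_self b)
  rw [Finset.mem_filter] at hamem hbmem
  have hda := deg_pos a.2
  have hdb := deg_pos b.2
  have h5 := h.five
  rw [h.degree] at hone
  -- the signs differ
  have key : ∀ a b : IrrCharacter G, a ≠ b → (O.filter fun ξ => k ξ ≠ 0) = {a, b} → a ∈ O → b ∈ O →
      k a = -1 → k b = 1 →
      (∀ g : G, ¬ p ∣ orderOf g →
        (χ : G → ℂ) g + (k a : ℂ) * (a : G → ℂ) g + (k b : ℂ) * (b : G → ℂ) g = 0) →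
      ∃ (a b : IrrCharacter G) (n : ℕ), Companions (P := P) χ fam a b n := by
    intro a b hab hset haO hbO ea eb hrel
    have hb1 := (hkc b hbO).2
    have ha1 := (hkc a haO).2
    rw [eb] at hb1
    rw [ea] at ha1
    have hbn : deg (b : G → ℂ) = c b * p + 1 := by
      have := hb1.1
      push_cast at this
      zify
      linear_combination this
    have hrel' : ∀ g : G, ¬ p ∣ orderOf g → (a : G → ℂ) g = (b : G → ℂ) g + (χ : G → ℂ) g := by
      intro g hg
      have h1 := hrel g hg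
      rw [ea, eb] at h1
      push_cast at h1
      linear_combination -h1
    have han : deg (a : G → ℂ) + 1 = (c b + 1) * p := by
      have h1 := hrel' 1 (by simp [hp.ne_one])
      simp only [char_one_eq_deg (irr_isCharacter χ.2), char_one_eq_deg (irr_isCharacter a.2),
        char_one_eq_deg (irr_isCharacter b.2), h.degree] at h1
      have h2 : deg (a : G → ℂ) = deg (b : G → ℂ) + (p - 2) := by exact_mod_cast h1
      rw [h2, hbn, add_mul]
      omega
    refine ⟨a, b, c b, (Finset.mem_filter.mp haO).1, (Finset.mem_filter.mp hbO).1, hab,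
      (Finset.mem_filter.mp haO).2, (Finset.mem_filter.mp hbO).2, han, hbn,
      by have := hb1.2; omega, fun y hy => ?_, fun y hy => ?_,
      fun ξ hξ hne hna hnb y hy => ?_, hrel'⟩
    · rw [(hkc a haO).1 y hy, ea, Int.cast_neg, Int.cast_one]
    · rw [(hkc b hbO).1 y hy, eb, Int.cast_one]
    · have hξO : ξ ∈ O := Finset.mem_filter.mpr ⟨hξ, hne⟩
      have e : k ξ = 0 := by
        by_contra e
        have : ξ ∈ ({a, b} : Finset _) := hset ▸ Finset.mem_filter.mpr ⟨hξO, e⟩
        simp [hna, hnb] at this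
      rw [(hkc ξ hξO).1 y hy, e, Int.cast_zero]
  rcases (hle a hamem.1).resolve_left hamem.2 with ea | ea <;>
    rcases (hle b hbmem.1).resolve_left hbmem.2 with eb | eb
  · exfalso
    rw [ea, eb] at hone
    omega
  · refine key b a hab.symm (hset.trans (Finset.pair_comm a b)) hbmem.1 hamem.1 eb ea fun g hg => ?_
    linear_combination hrel g hg
  · exact key a b hab hset hamem.1 hbmem.1 ea eb hrel
  · exfalso
    have h1 := (hkc a hamem.1).2.1
    rw [ea, eb] at hone
    rw [ea] at h1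
    have h2 : 1 ≤ c a := Nat.pos_of_ne_zero fun e => by rw [e] at h1; push_cast at h1; omega
    have h3 : (p : ℤ) * 1 ≤ (p : ℤ) * c a :=
      mul_le_mul_of_nonneg_left (by exact_mod_cast h2) (Int.natCast_nonneg p)
    omega

variable {a b : IrrCharacter G} {k : ℕ} (hC : Companions (P := P) χ fam a b k)
include hC

/-- The class algebra sum over the central character of `χ`. -/
theorem Data.bsum_chi {v : G} (hv : v ∈ Subgroup.normalizer ((P : Subgroup G) : Set G))
    (hv' : v ∉ Subgroup.centralizer ((P : Subgroup G) : Set G)) {y : ↥(P : Subgroup G)}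
    (hy : (y : G) ≠ 1) :
    ∃ B : ℝ, ∑ ξ ∈ lvl χ, bterm (y : G) v ξ = (B : ℂ) ∧
      B * (((k * p + p - 1 : ℕ) : ℝ) * ((k * p + 1 : ℕ) : ℝ) * ((p - 2 : ℕ) : ℝ)) ≤
        (((p - 1) * (2 * k + 1) : ℕ) : ℝ) ^ 2 := by
  have h := D.ctx
  have hreg := h.out_reg hv hv'
  set μ := (χ : G → ℂ) v with hμ
  set β := (b : G → ℂ) v with hβ
  have hα : (a : G → ℂ) v = β + μ := hC.rel v hreg
  have hsum : ∑ ξ ∈ lvl χ, bterm (y : G) v ξ =
      (∑ i, bterm (y : G) v (fam i)) + (bterm (y : G) v a + bterm (y : G) v b) := by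
    rw [← Finset.sum_filter_not_add_sum_filter (lvl χ) (fun ξ => ∀ i, fam i ≠ ξ)]
    congr 1
    · rw [← Finset.sum_image (f := bterm (y : G) v) (g := fam) fun i _ j _ e => D.isFam.inj e]
      refine Finset.sum_congr ?_ fun _ _ => rfl
      ext ξ
      simp only [Finset.mem_filter, Finset.mem_image, Finset.mem_univ, true_and, not_forall, not_not]
      exact ⟨fun hξ => hξ.2, fun hξ => ⟨hξ.elim fun i e => e ▸ D.fam_mem i, hξ⟩⟩
    · rw [← Finset.sum_pair hC.ne]
      refine (Finset.sum_subset ?_ fun ξ hξ hξ' => ?_).symm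
      · intro ξ hξ
        rcases Finset.mem_insert.mp hξ with rfl | hξ
        · exact Finset.mem_filter.mpr ⟨hC.a_mem, hC.a_out⟩
        · rw [Finset.mem_singleton] at hξ
          subst hξ
          exact Finset.mem_filter.mpr ⟨hC.b_mem, hC.b_out⟩
      · simp only [Finset.mem_insert, Finset.mem_singleton, not_or] at hξ'
        rw [bterm, hC.rest ξ (Finset.mem_filter.mp hξ).1 (Finset.mem_filter.mp hξ).2 hξ'.1 hξ'.2 y hy,
          map_zero, mul_zero, zero_div]
  have hfam : ∑ i, bterm (y : G) v (fam i) = μ * conj μ / ((p - 2 : ℕ) : ℂ) := by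
    have h1 : ∀ i, bterm (y : G) v (fam i) =
        μ * conj μ / ((p - 2 : ℕ) : ℂ) * (fam i : G → ℂ) y := fun i => by
      rw [bterm, D.isFam.reg i v hreg, D.isFam.apply_one h, h.conj_apply, ← hμ,
        char_one_eq_deg (irr_isCharacter χ.2), h.degree]
      ring
    rw [Finset.sum_congr rfl fun i _ => h1 i, ← Finset.mul_sum,
      Fam.sum_val h D.orbit D.isFam hy, mul_one]
  set n : ℝ := ((p - 2 : ℕ) : ℝ) with hn
  set m : ℝ := ((k * p + 1 : ℕ) : ℝ) with hm
  set A : ℝ := ((k * p + p - 1 : ℕ) : ℝ) with hA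
  have h5 := h.five
  have hnpos : 0 < n := by rw [hn]; exact_mod_cast (by omega : 0 < p - 2)
  have hmpos : 0 < m := by rw [hm]; exact_mod_cast Nat.succ_pos _
  have hApos : 0 < A := by rw [hA]; exact_mod_cast (by omega : 0 < k * p + p - 1)
  have hAmn : A = m + n := by
    rw [hA, hm, hn, ← Nat.cast_add, Nat.cast_inj]
    omega
  set B : ℝ := Complex.normSq ((n : ℂ) * β - (m : ℂ) * μ) / (A * m * n) with hB
  refine ⟨B, ?_, ?_⟩
  · have hadeg : (a : G → ℂ) 1 = (A : ℂ) := by
      have := hC.a_deg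
      rw [char_one_eq_deg (irr_isCharacter a.2), hA, Complex.ofReal_natCast, Nat.cast_inj]
      rw [add_mul, one_mul] at this
      omega
    have hbdeg : (b : G → ℂ) 1 = (m : ℂ) := by
      rw [char_one_eq_deg (irr_isCharacter b.2), hC.b_deg, hm, Complex.ofReal_natCast]
    rw [hsum, hfam, bterm, bterm, hα, hC.a_val y hy, hC.b_val y hy, hadeg, hbdeg, ← hβ, hB,
      show ((p - 2 : ℕ) : ℂ) = (n : ℂ) by rw [hn, Complex.ofReal_natCast]]
    push_cast
    rw [← Complex.mul_conj]
    simp only [map_sub, map_add, map_mul, map_neg, map_one, Complex.conj_ofReal]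
    have hAC : (A : ℂ) = (m : ℂ) + (n : ℂ) := by exact_mod_cast hAmn
    have e1 : (m : ℂ) ≠ 0 := Complex.ofReal_ne_zero.mpr hmpos.ne'
    have e2 : (n : ℂ) ≠ 0 := Complex.ofReal_ne_zero.mpr hnpos.ne'
    have e3 : (m : ℂ) + (n : ℂ) ≠ 0 := hAC ▸ Complex.ofReal_ne_zero.mpr hApos.ne'
    rw [hAC]
    field_simp
    ring
  · rw [hB, div_mul_cancel₀ _ (mul_ne_zero (mul_ne_zero hApos.ne' hmpos.ne') hnpos.ne'),
      Complex.normSq_eq_norm_sq]
    refine pow_le_pow_left₀ (norm_nonneg _) ?_ 2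
    have hμle : ‖μ‖ ≤ 1 := by
      have := h.norm_apply_le hv hv' χ
      rwa [h.lmult_chi_one, Nat.cast_one] at this
    have hβle : ‖β‖ ≤ ((k + 1 : ℕ) : ℝ) := by
      have := h.norm_apply_le hv hv' b
      rwa [hC.b_fix] at this
    calc ‖(n : ℂ) * β - (m : ℂ) * μ‖ ≤ ‖(n : ℂ) * β‖ + ‖(m : ℂ) * μ‖ := norm_sub_le _ _
      _ ≤ n * ((k + 1 : ℕ) : ℝ) + m * 1 := by
        rw [norm_mul, norm_mul, Complex.norm_real, Complex.norm_real,
          Real.norm_of_nonneg hnpos.le, Real.norm_of_nonneg hmpos.le]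
        exact add_le_add (mul_le_mul_of_nonneg_left hβle hnpos.le)
          (mul_le_mul_of_nonneg_left hμle hmpos.le)
      _ = _ := by
        rw [hn, hm, mul_one, ← Nat.cast_mul, ← Nat.cast_add, Nat.cast_inj]
        obtain ⟨q, rfl⟩ : ∃ q, p = q + 2 := ⟨p - 2, by omega⟩
        rw [Nat.add_sub_cancel, show q + 2 - 1 = q + 1 by omega]
        ring

end Cfsg.Agent.Char.PSubTwo
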