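import Cfsg.Agent.Lib.Char.PSubTwo.Partners

/-!
# Faithful degree `p - 2`: the companion of value `1` is linear

The principal block carries the class algebra sum for the trivial central character, which bounds it from below;
the one over the central character of `χ` is small unless the companion is linear.
-/

set_option autoImplicit false
set_option linter.unusedSectionVars false
set_option linter.style.haveILetI false

open Cfsg
open scoped ComplexConjugate Classical

namespace Cfsg.Agent.Char.PSubTwo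

universe u

variable {G : Type u} [Group G] [Fintype G] {p : ℕ} [Fact p.Prime] {P : Sylow p G}
  [Fintype (↥(P : Subgroup G) →* ℂˣ)] {χ : IrrCharacter G} {r : ℕ}
  {rep : Fin r → (↥(P : Subgroup G) →* ℂˣ)} {idx : (↥(P : Subgroup G) →* ℂˣ) → Fin r}
  {fam : Fin r → IrrCharacter G} {i₀ : Fin r} {M : Ideal AlgInt}

section

variable (h : Ctx P χ)
include h

theorem Ctx.principal_center (hM : IsPModular p M) {ξ : IrrCharacter G}
    (hξ : ξ ∈ principalBlock M G) {z : G} (hz : z ∈ Subgroup.center G) : cw ξ z = 1 := by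
  obtain ⟨y, hy, hne⟩ := h.frob.principal_exists_ne hM hξ
  have hy1 := mem_nonOne.mp hy
  have h1 := h.frob.principal_const hM hξ hy1
    ⟨z, h.cent_eq hy1 ▸ h.center_le_centralizer hz⟩
    (by rw [Subgroup.orderOf_mk]; exact h.center_reg hz)
  rw [cw_apply_mul ξ hz] at h1
  exact (mul_eq_right₀ hne).mp h1

theorem Ctx.nonprincipal_vanish (hM : IsPModular p M) {ξ : IrrCharacter G}
    (hξ : ξ ∉ principalBlock M G) (hZ : ∀ z ∈ Subgroup.center G, cw ξ z = 1)
    {y : ↥(P : Subgroup G)} (hy : (y : G) ≠ 1) : (ξ : G → ℂ) y = 0 := by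
  have h1 := h.frob.nonprincipal_sum_zero hM hξ hy
  rw [Finset.sum_congr rfl fun v hv => by
    rw [(h.apply_section ξ hy v (Finset.mem_filter.mp hv).2).2,
      hZ _ (h.apply_section ξ hy v (Finset.mem_filter.mp hv).2).1, one_mul],
    Finset.sum_const, nsmul_eq_mul, mul_eq_zero] at h1
  refine h1.resolve_left (Nat.cast_ne_zero.mpr (Finset.card_ne_zero.mpr
    ⟨1, Finset.mem_filter.mpr ⟨Finset.mem_univ _, ?_⟩⟩))
  simp [(Fact.out : p.Prime).ne_one]

end

/-- The trivial character. -/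
noncomputable abbrev unit (G : Type u) [Group G] : IrrCharacter G :=
  ⟨fun _ => 1, isIrrCharacter_one⟩

theorem cw_unit (z : G) : cw (unit G) z = 1 := div_one 1

variable (D : Data P χ rep idx fam i₀)
include D

theorem Data.three_le : 3 ≤ r := by
  have h1 := D.orbit.count
  rw [D.ctx.card] at h1
  have := D.ctx.five
  omega

omit D in
theorem sq_re_le_normSq (w : ℂ) : w.re ^ 2 ≤ Complex.normSq w := by
  rw [Complex.normSq_apply, pow_two]
  exact le_add_of_nonneg_right (mul_self_nonneg _)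

/-- The class algebra sum over the trivial central character is not small. -/
theorem Data.bsum_one {v : G} (hv : v ∈ Subgroup.normalizer ((P : Subgroup G) : Set G))
    (hv' : v ∉ Subgroup.centralizer ((P : Subgroup G) : Set G)) {y : ↥(P : Subgroup G)}
    (hy : (y : G) ≠ 1) :
    ∃ B : ℝ, ∑ ξ ∈ lvl (unit G), bterm (y : G) v ξ = (B : ℂ) ∧
      ((p : ℝ) - 1) ^ 2 ≤ B * (p : ℝ) ^ 2 := by
  have h := D.ctx
  have hp : p.Prime := Fact.out
  have h5 := h.five
  have hr := D.three_le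
  have hreg := h.out_reg hv hv'
  obtain ⟨M, hM⟩ := exists_pModular hp
  obtain ⟨X, μ, a, d, δ, hX⟩ := h.frob.exists_principal_exc hM (by norm_num) (by omega) D.orbit
  have hδ2 : δ ^ 2 = 1 := by rcases hX.sign with e | e <;> simp [e]
  have herase : ∑ ξ ∈ X.erase (unit G), a ξ ^ 2 + 1 + (d - δ) ^ 2 + ((r : ℤ) - 1) * d ^ 2 = 3 := by
    have h1 := Finset.add_sum_erase X (fun ξ => a ξ ^ 2) hX.one_mem
    rw [hX.one_val, one_pow] at h1
    have h2 := hX.norm
    push_cast at h2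
    linear_combination h2 + h1
  have hsum0 : 0 ≤ ∑ ξ ∈ X.erase (unit G), a ξ ^ 2 := Finset.sum_nonneg fun _ _ => sq_nonneg _
  set i₁ : Fin r := ⟨0, by omega⟩ with hi₁
  have hrel : ∀ g : G, ¬ p ∣ orderOf g → ((r : ℂ) * d - δ) * (μ i₁ : G → ℂ) g + 1 +
      ∑ ξ ∈ X.erase (unit G), (a ξ : ℂ) * (ξ : G → ℂ) g = 0 := by
    intro g hg
    have h1 := hX.rel i₁ g hg
    rw [← Finset.add_sum_erase X _ hX.one_mem, hX.one_val, Int.cast_one, one_mul] at h1
    linear_combination h1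
  have hd : d = 0 := by
    by_contra hd
    have h1 : 1 ≤ d ^ 2 := sq_pos_of_ne_zero hd
    have h2 : ((r : ℤ) - 1) * 1 ≤ ((r : ℤ) - 1) * d ^ 2 := mul_le_mul_of_nonneg_left h1 (by omega)
    have h3 := sq_nonneg (d - δ)
    have hr3 : (r : ℤ) = 3 := by omega
    rw [hr3] at herase
    obtain rfl : d = δ := by
      have : (d - δ) ^ 2 = 0 := by omega
      exact sub_eq_zero.mp (pow_eq_zero_iff two_ne_zero |>.mp this)
    have h4 : ∑ ξ ∈ X.erase (unit G), a ξ ^ 2 = 0 := by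
      rw [hδ2] at herase
      omega
    have h6 := hrel 1 (by simp [hp.ne_one])
    rw [Finset.sum_eq_zero (s := X.erase (unit G)) fun ξ hξ => by
      rw [pow_eq_zero_iff two_ne_zero |>.mp ((Finset.sum_eq_zero_iff_of_nonneg
        fun _ _ => sq_nonneg _).mp h4 ξ hξ), Int.cast_zero, zero_mul],
      add_zero, char_one_eq_deg (irr_isCharacter (μ i₁).2)] at h6
    have h7 : ((r : ℤ) * d - d) * (deg (μ i₁ : G → ℂ) : ℤ) + 1 = 0 := by exact_mod_cast h6
    rw [hr3] at h7
    have hd' := hX.sign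
    rcases hd' with e | e <;> rw [e] at h7 <;> omega
  subst hd
  have hE : ∑ ξ ∈ X.erase (unit G), a ξ ^ 2 = 1 := by
    rw [zero_sub, neg_sq, hδ2] at herase
    omega
  have hpos : ∀ ξ ∈ X.erase (unit G), 1 ≤ a ξ ^ 2 := fun ξ hξ =>
    sq_pos_of_ne_zero (hX.a_ne ξ (Finset.mem_of_mem_erase hξ))
  obtain ⟨ψ, hψ⟩ : ∃ ψ, X.erase (unit G) = {ψ} := by
    refine Finset.card_eq_one.mp ?_
    have h1 : ((X.erase (unit G)).card : ℤ) ≤ 1 := by
      rw [← hE, Finset.card_eq_sum_ones, Nat.cast_sum]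
      exact Finset.sum_le_sum fun ξ hξ => by simpa using hpos ξ hξ
    have h2 : (X.erase (unit G)).card ≠ 0 := fun e => by
      rw [Finset.card_eq_zero.mp e, Finset.sum_empty] at hE
      omega
    omega
  rw [hψ, Finset.sum_singleton] at hE
  have hψe : ψ ∈ X.erase (unit G) := hψ ▸ Finset.mem_singleton_self ψ
  have hψX : ψ ∈ X := Finset.mem_of_mem_erase hψe
  have hψ1 : ψ ≠ unit G := (Finset.mem_erase.mp hψe).1
  set s := a ψ with hs
  have hsgn : s = 1 ∨ s = -1 := sq_eq_one_iff.mp hE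
  have hψy : ∀ y : ↥(P : Subgroup G), (y : G) ≠ 1 → (ψ : G → ℂ) y = (s : ℂ) :=
    fun y hy => hX.a_val ψ hψX y (mem_nonOne.mpr hy)
  have hμy : ∀ i, ∀ y : ↥(P : Subgroup G), (y : G) ≠ 1 →
      (μ i : G → ℂ) y = (δ : ℂ) * orbSum (rep i) y := fun i y hy => by
    rw [hX.mu_val i y (mem_nonOne.mpr hy), Int.cast_zero, zero_add]
  set σ := (ψ : G → ℂ) v with hσ
  set τ := (μ i₁ : G → ℂ) v with hτ
  set nψ := deg (ψ : G → ℂ) with hnψ
  set nθ := deg (μ i₁ : G → ℂ) with hnθ
  have hrel' : ∀ g : G, ¬ p ∣ orderOf g →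
      (μ i₁ : G → ℂ) g = (δ : ℂ) * (1 + (s : ℂ) * (ψ : G → ℂ) g) := by
    intro g hg
    have h1 := hrel g hg
    rw [hψ, Finset.sum_singleton, Int.cast_zero, mul_zero, zero_sub] at h1
    have h2 : (δ : ℂ) ^ 2 = 1 := by exact_mod_cast hδ2
    linear_combination (-(δ : ℂ)) * h1 - (μ i₁ : G → ℂ) g * h2
  have hτσ : τ = (δ : ℂ) * (1 + (s : ℂ) * σ) := hrel' v hreg
  have hdeg : (nθ : ℤ) = δ * (1 + s * nψ) := by
    have h1 := hrel' 1 (by simp [hp.ne_one])
    simp only [char_one_eq_deg (irr_isCharacter ψ.2), char_one_eq_deg (irr_isCharacter (μ i₁).2)] at h1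
    exact_mod_cast h1
  -- the fixed dimensions
  set Lψ := lmult ψ (1 : ↥(P : Subgroup G) →* ℂˣ) with hLψ
  set Lθ := lmult (μ i₁) (1 : ↥(P : Subgroup G) →* ℂˣ) with hLθ
  have hLψ' : (nψ : ℤ) + ((p : ℤ) - 1) * s = (p : ℤ) * Lψ := by
    have h1 := lmult_spec ψ (1 : ↥(P : Subgroup G) →* ℂˣ)
    simp only [MonoidHom.one_apply, Units.val_one, map_one, mul_one] at h1
    rw [← Finset.add_sum_erase _ _ (Finset.mem_univ (1 : ↥(P : Subgroup G))),
      Finset.sum_congr rfl fun y hy => hψy y (fun e => (Finset.mem_erase.mp hy).1 (Subtype.ext e)),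
      Finset.sum_const, Finset.card_erase_of_mem (Finset.mem_univ _), Finset.card_univ,
      ← Nat.card_eq_fintype_card, h.card, OneMemClass.coe_one,
      char_one_eq_deg (irr_isCharacter ψ.2), nsmul_eq_mul, ← hLψ, ← hnψ] at h1
    push_cast [Nat.cast_sub hp.one_le] at h1
    exact_mod_cast h1
  have hLθ' : (nθ : ℤ) - 2 * δ = (p : ℤ) * Lθ := by
    have h1 := lmult_spec (μ i₁) (1 : ↥(P : Subgroup G) →* ℂˣ)
    simp only [MonoidHom.one_apply, Units.val_one, map_one, mul_one] at h1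
    rw [← Finset.add_sum_erase _ _ (Finset.mem_univ (1 : ↥(P : Subgroup G))),
      Finset.sum_congr rfl fun y hy => hμy i₁ y (fun e => (Finset.mem_erase.mp hy).1 (Subtype.ext e)),
      ← Finset.mul_sum, Finset.sum_erase_eq_sub (Finset.mem_univ _),
      h.frob.sum_orbSum (D.orbit.rep_ne i₁), h.frob.orbSum_one (D.orbit.rep_ne i₁), h.card,
      OneMemClass.coe_one, char_one_eq_deg (irr_isCharacter (μ i₁).2), ← hLθ, ← hnθ] at h1
    have h2 : ((((nθ : ℤ) - 2 * δ : ℤ)) : ℂ) = (((p : ℤ) * Lθ : ℤ) : ℂ) := by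
      push_cast
      linear_combination h1
    exact_mod_cast h2
  have hσle : ‖σ‖ ≤ (Lψ : ℝ) := h.norm_apply_le hv hv' ψ
  have hτle : ‖τ‖ ≤ (Lθ : ℝ) := h.norm_apply_le hv hv' (μ i₁)
  -- the sum
  have hsum : ∑ ξ ∈ lvl (unit G), bterm (y : G) v ξ =
      bterm (y : G) v (unit G) + bterm (y : G) v ψ + ∑ i, bterm (y : G) v (μ i) := by
    have hsub : X ∪ Finset.univ.image μ ⊆ lvl (unit G) := by
      intro ξ hξ
      refine mem_lvl.mpr fun z hz => ?_
      rw [cw_unit, h.principal_center hM ((hX.mem_iff ξ).mpr ?_) hz]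
      simpa using hξ
    rw [← Finset.sum_subset hsub fun ξ hξ hξ' => ?_, Finset.sum_union,
      Finset.sum_image fun i _ j _ e => hX.inj e, ← Finset.add_sum_erase X _ hX.one_mem, hψ,
      Finset.sum_singleton]
    · refine Finset.disjoint_left.mpr fun ξ hξ hξ' => ?_
      obtain ⟨i, -, rfl⟩ := Finset.mem_image.mp hξ'
      exact hX.notMem i hξ
    · have hnp : ξ ∉ principalBlock M G := fun hc => hξ' (by simpa using (hX.mem_iff ξ).mp hc)
      rw [bterm, h.nonprincipal_vanish hM hnp (fun z hz => (mem_lvl.mp hξ z hz).trans (cw_unit z)) hy,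
        map_zero, mul_zero, zero_div]
  have hμsum : ∑ i, bterm (y : G) v (μ i) = -(τ * conj τ) * (δ : ℂ) / (nθ : ℂ) := by
    have h1 : ∀ i, bterm (y : G) v (μ i) = τ * conj τ * (δ : ℂ) / (nθ : ℂ) * orbSum (rep i) y :=
      fun i => by
        rw [bterm, hX.reg i i₁ v hreg, hX.reg i i₁ 1 (by simp [hp.ne_one]),
          char_one_eq_deg (irr_isCharacter (μ i₁).2), h.conj_apply, hμy i y hy, ← hτ]
        ring
    rw [Finset.sum_congr rfl fun i _ => h1 i, ← Finset.mul_sum, h.frob.sum_all_orbSum D.orbit hy]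
    ring
  have hnθ0 : 0 < nθ := deg_pos (μ i₁).2
  have hnψ0 : 0 < nψ := deg_pos ψ.2
  have hfac : ((nψ : ℤ) + s) ≠ 0 := fun e => by
    have h1 : (nψ : ℤ) = -s := by omega
    rw [h1] at hdeg
    rcases hsgn with e' | e' <;> rw [e'] at hdeg <;> simp at hdeg <;> omega
  set B : ℝ := Complex.normSq ((nψ : ℂ) - σ) / ((nψ : ℝ) * ((nψ : ℝ) + (s : ℝ))) with hB
  refine ⟨B, ?_, ?_⟩
  · rw [hsum, hμsum, bterm, bterm, hψy y hy, char_one_eq_deg (irr_isCharacter ψ.2), ← hσ, ← hnψ,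
      hτσ, show ((nθ : ℂ)) = (δ : ℂ) * (1 + (s : ℂ) * (nψ : ℂ)) by exact_mod_cast hdeg]
    simp only [hB, map_one, mul_one, div_one, map_mul, map_add, map_intCast]
    push_cast
    rw [← Complex.mul_conj]
    simp only [map_sub, map_natCast]
    have e1 : (nψ : ℂ) ≠ 0 := Nat.cast_ne_zero.mpr hnψ0.ne'
    have e2 : (nψ : ℂ) + (s : ℂ) ≠ 0 := by exact_mod_cast hfac
    have hs2 : (s : ℂ) ^ 2 = 1 := by exact_mod_cast hE
    have hd2 : (δ : ℂ) ^ 2 = 1 := by exact_mod_cast hδ2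
    have e3 : (s : ℂ) ≠ 0 := fun hz => by rw [hz] at hs2; norm_num at hs2
    have e4 : (δ : ℂ) ≠ 0 := fun hz => by rw [hz] at hd2; norm_num at hd2
    rw [show (1 : ℂ) + (s : ℂ) * (nψ : ℂ) = (s : ℂ) * ((nψ : ℂ) + (s : ℂ)) by
      linear_combination -hs2]
    rcases hsgn with e | e <;> rcases hX.sign with f | f <;>
      (simp only [e, f, Int.cast_one, Int.cast_neg] at e2 ⊢
       field_simp
       ring)
  · have hre : ((nψ : ℝ) - σ.re) ^ 2 ≤ Complex.normSq ((nψ : ℂ) - σ) := by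
      refine le_trans (le_of_eq ?_) (sq_re_le_normSq _)
      simp
    have hp7 : (5 : ℝ) < p := by exact_mod_cast h5
    rcases hsgn with e | e
    · rcases Nat.lt_or_ge nψ 2 with hlin | hbig
      · -- a linear character
        have h1 : nψ = 1 := by omega
        obtain ⟨l, hl⟩ := exists_hom_of_degree_one (irr_isCharacter ψ.2)
          (by rw [char_one_eq_deg (irr_isCharacter ψ.2), ← hnψ, h1, Nat.cast_one])
        have hker : ∀ g : G, (ψ : G → ℂ) g = 1 → g ∈ l.ker := fun g hg => by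
          rw [hl] at hg
          exact MonoidHom.mem_ker.mpr (Units.val_eq_one.mp hg)
        have hψZ : ∀ z ∈ Subgroup.center G, (ψ : G → ℂ) z = 1 := fun z hz => by
          have h2 := h.principal_center hM ((hX.mem_iff ψ).mpr (Or.inl hψX)) hz
          rwa [cw, char_one_eq_deg (irr_isCharacter ψ.2), ← hnψ, h1, Nat.cast_one, div_one] at h2
        have hσm : σ = -1 := by
          have h2 := hψZ _ (h.mul_self_mem_center hv hv')
          rw [hl] at h2
          simp only [map_mul, Units.val_mul] at h2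
          have h3 : σ * σ = 1 := by
            rw [hσ, hl]
            exact h2
          refine (mul_self_eq_one_iff.mp h3).resolve_left fun h4 => hψ1 ?_
          have hPK : (P : Subgroup G) ≤ l.ker := fun w hw => by
            by_cases hw1 : w = 1
            · rw [hw1]; exact one_mem _
            · exact hker w ((hψy ⟨w, hw⟩ hw1).trans (by rw [e, Int.cast_one]))
          have hNK : Subgroup.normalizer ((P : Subgroup G) : Set G) ≤ l.ker := by
            have hCK : Subgroup.centralizer ((P : Subgroup G) : Set G) ≤ l.ker := fun c hc => by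
              obtain ⟨w, hw, z, hz, rfl⟩ := h.decomp hc
              exact mul_mem (hPK hw) (hker z (hψZ z hz))
            intro g hg
            by_cases hgC : g ∈ Subgroup.centralizer ((P : Subgroup G) : Set G)
            · exact hCK hgC
            · have h5 := hCK ((h.mul_mem_iff hv hg).mpr (iff_of_false hv' hgC))
              exact ((l.ker).mul_mem_cancel_left (hker v (hσ ▸ h4))).mp h5
          have htop : l.ker = ⊤ := by
            rw [eq_top_iff, ← Sylow.normalizer_sup_eq_top' P hPK]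
            exact sup_le hNK le_rfl
          refine Subtype.ext (funext fun g => ?_)
          rw [hl]
          show ((l g : ℂˣ) : ℂ) = 1
          rw [MonoidHom.mem_ker.mp (htop ▸ Subgroup.mem_top g : g ∈ l.ker), Units.val_one]
        rw [hB, hσm, h1, e]
        norm_num [Complex.normSq_apply]
        nlinarith
      · -- `ψ(1) = m p + 1`
        rw [e] at hLψ' hdeg
        obtain ⟨m, hm⟩ : ∃ m : ℕ, Lψ = m + 1 := ⟨Lψ - 1, by
          rcases Nat.eq_zero_or_pos Lψ with h0 | h0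
          · rw [h0] at hLψ'; push_cast at hLψ'; omega
          · omega⟩
        rw [hm] at hLψ'
        have hn : (nψ : ℤ) = (p : ℤ) * m + 1 := by push_cast at hLψ'; linear_combination hLψ'
        have hδ1 : δ = 1 := by
          rcases hX.sign with f | f
          · exact f
          · rw [f] at hdeg; omega
        have hLθm : Lθ = m := by
          rw [hδ1] at hLθ' hdeg
          have : (p : ℤ) * Lθ = (p : ℤ) * m := by linear_combination -hLθ' + hdeg + hn
          exact_mod_cast mul_left_cancel₀ (by exact_mod_cast hp.ne_zero) this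
        have hσre : σ.re ≤ (m : ℝ) - 1 := by
          have h1 : τ.re ≤ (m : ℝ) := hLθm ▸ (Complex.re_le_norm τ).trans hτle
          rw [hτσ, hδ1, e] at h1
          simp at h1
          linarith
        have hnR : (nψ : ℝ) = (p : ℝ) * m + 1 := by exact_mod_cast hn
        have hm0 : (0 : ℝ) ≤ m := Nat.cast_nonneg m
        have hpm : (0 : ℝ) ≤ (p : ℝ) * m := by positivity
        have hden : (0 : ℝ) < (nψ : ℝ) * ((nψ : ℝ) + (s : ℝ)) := by
          rw [e, hnR]; push_cast; positivity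
        rw [hB, div_mul_eq_mul_div, le_div_iff₀ hden]
        refine le_trans ?_ (mul_le_mul_of_nonneg_right hre (sq_nonneg _))
        rw [e, hnR]
        push_cast
        have h6 : (0 : ℝ) ≤ ((p : ℝ) - 1) * m + 2 := by nlinarith
        have h7 : (((p : ℝ) - 1) * m + 2) ^ 2 ≤ ((p : ℝ) * m + 1 - σ.re) ^ 2 :=
          pow_le_pow_left₀ h6 (by linarith) 2
        have h8 : ((p : ℝ) * m + 1) * ((p : ℝ) * m + 1 + 1) ≤ ((p : ℝ) * m + 2) ^ 2 := by nlinarith
        have h9 : ((p : ℝ) - 1) * ((p : ℝ) * m + 2) ≤ (p : ℝ) * (((p : ℝ) - 1) * m + 2) := by nlinarith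
        have h10 : ((p : ℝ) - 1) ^ 2 * ((p : ℝ) * m + 2) ^ 2 ≤
            (p : ℝ) ^ 2 * (((p : ℝ) - 1) * m + 2) ^ 2 := by
          rw [← mul_pow, ← mul_pow]
          exact pow_le_pow_left₀ (mul_nonneg (by linarith) (by linarith)) h9 2
        calc ((p : ℝ) - 1) ^ 2 * (((p : ℝ) * m + 1) * ((p : ℝ) * m + 1 + 1))
            ≤ ((p : ℝ) - 1) ^ 2 * ((p : ℝ) * m + 2) ^ 2 := mul_le_mul_of_nonneg_left h8 (sq_nonneg _)
          _ ≤ (p : ℝ) ^ 2 * (((p : ℝ) - 1) * m + 2) ^ 2 := h10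
          _ ≤ ((p : ℝ) * m + 1 - σ.re) ^ 2 * (p : ℝ) ^ 2 := by
            rw [mul_comm (((p : ℝ) * m + 1 - σ.re) ^ 2)]
            exact mul_le_mul_of_nonneg_left h7 (sq_nonneg _)
    · -- `ψ(1) = m p - 1`
      rw [e] at hLψ'
      have hn : (nψ : ℤ) = (p : ℤ) * ((Lψ : ℤ) + 1) - 1 := by linear_combination hLψ'
      have hnR : (nψ : ℝ) = (p : ℝ) * ((Lψ : ℝ) + 1) - 1 := by exact_mod_cast hn
      have hL0 : (0 : ℝ) ≤ Lψ := Nat.cast_nonneg _
      have hσre : σ.re ≤ (Lψ : ℝ) := (Complex.re_le_norm σ).trans hσle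
      have hpL : (5 : ℝ) < (p : ℝ) * ((Lψ : ℝ) + 1) := by nlinarith
      have hden : (0 : ℝ) < (nψ : ℝ) * ((nψ : ℝ) + (s : ℝ)) := by
        rw [e, hnR]; push_cast; exact mul_pos (by linarith) (by linarith)
      rw [hB, div_mul_eq_mul_div, le_div_iff₀ hden]
      refine le_trans ?_ (mul_le_mul_of_nonneg_right hre (sq_nonneg _))
      rw [e, hnR]
      push_cast
      set m : ℝ := (Lψ : ℝ) + 1 with hm
      have h7 : (((p : ℝ) - 1) * m) ^ 2 ≤ ((p : ℝ) * m - 1 - σ.re) ^ 2 :=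
        pow_le_pow_left₀ (mul_nonneg (by linarith) (by linarith)) (by rw [hm]; linarith) 2
      have h8 : ((p : ℝ) * m - 1) * ((p : ℝ) * m - 1 + -1) ≤ (p : ℝ) ^ 2 * m ^ 2 := by nlinarith
      calc ((p : ℝ) - 1) ^ 2 * (((p : ℝ) * m - 1) * ((p : ℝ) * m - 1 + -1))
          ≤ ((p : ℝ) - 1) ^ 2 * ((p : ℝ) ^ 2 * m ^ 2) :=
            mul_le_mul_of_nonneg_left h8 (sq_nonneg _)
        _ = (((p : ℝ) - 1) * m) ^ 2 * (p : ℝ) ^ 2 := by ring
        _ ≤ _ := mul_le_mul_of_nonneg_right h7 (sq_nonneg _)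

/-- The companion of value `1` is linear. -/
theorem Data.companion_linear {a b : IrrCharacter G} {k : ℕ}
    (hC : Companions (P := P) χ fam a b k) : k = 0 := by
  by_contra hk
  obtain ⟨v, hv, hv'⟩ := D.ctx.exists_outside
  obtain ⟨y, hy⟩ := D.ctx.exists_nonOne
  obtain ⟨B₁, e₁, h₁⟩ := D.bsum_one hv hv' hy
  obtain ⟨B₂, e₂, h₂⟩ := D.bsum_chi hC hv hv' hy
  have heq : B₁ = B₂ := by
    have h3 := D.ctx.bsum_eq hv hv' (unit G) χ hy
    rw [e₁, e₂] at h3
    exact_mod_cast h3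
  subst heq
  obtain ⟨q, rfl⟩ : ∃ q, k = q + 1 := ⟨k - 1, by omega⟩
  have h5 := D.ctx.five
  have hp6 : (6 : ℝ) ≤ p := by exact_mod_cast h5
  rw [Nat.cast_sub (by omega : 2 ≤ p), Nat.cast_sub (by omega : 1 ≤ (q + 1) * p + p)] at h₂
  push_cast [Nat.cast_sub (by omega : 1 ≤ p)] at h₂
  have hq : (0 : ℝ) ≤ q := Nat.cast_nonneg q
  set K : ℝ := (q : ℝ) + 1 with hK
  set N : ℝ := (K * p + p - 1) * (K * p + 1) * ((p : ℝ) - 2) with hN
  have hNp : (0 : ℝ) < N := by
    have h1 : (6 : ℝ) ≤ K * p := by nlinarith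
    exact mul_pos (mul_pos (by linarith) (by linarith)) (by linarith)
  have hlow : (p : ℝ) ^ 2 * (2 * K + 1) ^ 2 < N := by
    have h1 : K * (K + 1) * (p : ℝ) ^ 2 ≤ (K * p + p - 1) * (K * p + 1) := by nlinarith
    have h2 : K * (K + 1) * (p : ℝ) ^ 2 * 4 + (p : ℝ) ^ 2 < (K * p + p - 1) * (K * p + 1) * 4 +
        (p : ℝ) ^ 2 + 1 := by linarith
    have h3 : (1 : ℝ) ≤ K := by rw [hK]; linarith
    have h4 : (0 : ℝ) < (p : ℝ) ^ 2 := by positivity
    have h5' : (p : ℝ) ^ 2 * (2 * K + 1) ^ 2 < K * (K + 1) * (p : ℝ) ^ 2 * 5 := by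
      have h3' : (2 * K + 1) ^ 2 < 5 * (K * (K + 1)) := by nlinarith
      have := mul_lt_mul_of_pos_left h3' h4
      linarith
    have h6 : (5 : ℝ) ≤ (p : ℝ) - 2 ∨ (p : ℝ) = 6 := by
      rcases Nat.lt_or_ge p 7 with h7 | h7
      · exact Or.inr (by exact_mod_cast (by omega : p = 6))
      · left
        have : (7 : ℝ) ≤ p := by exact_mod_cast h7
        linarith
    rcases h6 with h6 | h6
    · rw [hN]
      nlinarith
    · exfalso
      have h8 : p = 6 := by exact_mod_cast h6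
      exact absurd (Fact.out : p.Prime) (h8 ▸ by norm_num)
  have h9 : ((p : ℝ) - 1) ^ 2 * N ≤ ((p : ℝ) - 1) ^ 2 * ((2 * K + 1) ^ 2 * (p : ℝ) ^ 2) := by
    calc ((p : ℝ) - 1) ^ 2 * N ≤ B₁ * (p : ℝ) ^ 2 * N := mul_le_mul_of_nonneg_right h₁ hNp.le
      _ = B₁ * N * (p : ℝ) ^ 2 := by ring
      _ ≤ (((p : ℝ) - 1) * (2 * K + 1)) ^ 2 * (p : ℝ) ^ 2 :=
        mul_le_mul_of_nonneg_right h₂ (sq_nonneg _)
      _ = _ := by ring
  have h10 := le_of_mul_le_mul_left h9 (by nlinarith)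
  linarith

end Cfsg.Agent.Char.PSubTwo
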