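import Cfsg.Agent.Lib.Char.PSubTwo.Basic

/-!
# Faithful degree `p - 2`: the values on `P`

The restriction to `P` misses one pair of non-trivial linear characters; conjugacy gives a family of
`(p - 1) / 2` characters.
-/

set_option autoImplicit false
set_option linter.unusedSectionVars false
set_option linter.style.haveILetI false

open Cfsg
open scoped ComplexConjugate Classical

namespace Cfsg.Agent.Char.PSubTwo

open DefectOne

universe u

variable {G : Type u} [Group G] [Fintype G] {p : ℕ} [Fact p.Prime] {P : Sylow p G}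
  [Fintype (↥(P : Subgroup G) →* ℂˣ)]

theorem exists_lmult (ξ : IrrCharacter G) (l : ↥(P : Subgroup G) →* ℂˣ) :
    ∃ n : ℕ, ∑ y : ↥(P : Subgroup G), (ξ : G → ℂ) y * conj ((l y : ℂˣ) : ℂ) =
      (Nat.card P : ℂ) * n := by
  obtain ⟨n, hn⟩ := classInner_natCast
    (isCharacter_comp (P : Subgroup G).subtype (irr_isCharacter ξ.2)) (isCharacter_linear l)
  refine ⟨n, ?_⟩
  rw [← hn, classInner, ← mul_assoc, mul_inv_cancel₀ (Nat.cast_ne_zero.mpr Nat.card_pos.ne'),
    one_mul]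
  rfl

/-- The multiplicity of a linear character of `P`. -/
noncomputable def lmult (ξ : IrrCharacter G) (l : ↥(P : Subgroup G) →* ℂˣ) : ℕ :=
  (exists_lmult ξ l).choose

theorem lmult_spec (ξ : IrrCharacter G) (l : ↥(P : Subgroup G) →* ℂˣ) :
    ∑ y : ↥(P : Subgroup G), (ξ : G → ℂ) y * conj ((l y : ℂˣ) : ℂ) =
      (Nat.card P : ℂ) * lmult ξ l :=
  (exists_lmult ξ l).choose_spec

variable {χ : IrrCharacter G} (h : Ctx P χ)
include h

theorem Ctx.expand (ξ : IrrCharacter G) (y : ↥(P : Subgroup G)) :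
    (ξ : G → ℂ) y = ∑ l : ↥(P : Subgroup G) →* ℂˣ, (lmult ξ l : ℂ) * ((l y : ℂˣ) : ℂ) := by
  classical
  have hc : (Nat.card P : ℂ) ≠ 0 := Nat.cast_ne_zero.mpr Nat.card_pos.ne'
  refine mul_left_cancel₀ hc ?_
  rw [Finset.mul_sum, Finset.sum_congr rfl fun l _ => by
    rw [← mul_assoc, ← lmult_spec, Finset.sum_mul], Finset.sum_comm,
    Finset.sum_congr rfl (g := fun w : ↥(P : Subgroup G) => (ξ : G → ℂ) (w : G) *
      ∑ l : ↥(P : Subgroup G) →* ℂˣ, ((l (y * w⁻¹) : ℂˣ) : ℂ)) fun w _ => by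
      rw [Finset.mul_sum]
      refine Finset.sum_congr rfl fun l _ => ?_
      rw [← char_inv (isCharacter_linear l) w, map_mul, Units.val_mul]
      ring]
  simp only [h.frob.sum_dual_apply, mul_inv_eq_one, mul_ite, mul_zero, Finset.sum_ite_eq,
    Finset.mem_univ, if_true]
  exact mul_comm _ _

theorem Ctx.sum_lmult (ξ : IrrCharacter G) :
    ∑ l : ↥(P : Subgroup G) →* ℂˣ, lmult ξ l = deg (ξ : G → ℂ) := by
  have h1 := h.expand ξ 1
  simp only [map_one, Units.val_one, mul_one, OneMemClass.coe_one,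
    char_one_eq_deg (irr_isCharacter ξ.2)] at h1
  exact_mod_cast h1.symm

theorem Ctx.sum_sq (ξ : IrrCharacter G) :
    ∑ y : ↥(P : Subgroup G), (ξ : G → ℂ) y * conj ((ξ : G → ℂ) y) =
      (p : ℂ) * ((∑ l : ↥(P : Subgroup G) →* ℂˣ, lmult ξ l ^ 2 : ℕ) : ℂ) := by
  classical
  calc ∑ y : ↥(P : Subgroup G), (ξ : G → ℂ) y * conj ((ξ : G → ℂ) y)
      = ∑ l : ↥(P : Subgroup G) →* ℂˣ, (lmult ξ l : ℂ) *
          ∑ y : ↥(P : Subgroup G), (ξ : G → ℂ) y * conj ((l y : ℂˣ) : ℂ) := by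
        simp only [Finset.mul_sum]
        rw [Finset.sum_comm]
        refine Finset.sum_congr rfl fun y _ => ?_
        conv_lhs => arg 2; rw [h.expand ξ y]
        rw [map_sum, Finset.mul_sum]
        exact Finset.sum_congr rfl fun l _ => by rw [map_mul, map_natCast]; ring
    _ = _ := by
        rw [Nat.cast_sum, Finset.mul_sum]
        refine Finset.sum_congr rfl fun l _ => ?_
        rw [lmult_spec, h.card, Nat.cast_pow]
        ring

theorem Ctx.lmult_inv (ξ : IrrCharacter G) (l : ↥(P : Subgroup G) →* ℂˣ) :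
    lmult ξ l⁻¹ = lmult ξ l := by
  have hc : (Nat.card P : ℂ) ≠ 0 := Nat.cast_ne_zero.mpr Nat.card_pos.ne'
  refine Nat.cast_injective (R := ℂ) (mul_left_cancel₀ hc ?_)
  rw [← lmult_spec, ← lmult_spec]
  refine Fintype.sum_equiv (Equiv.inv ↥(P : Subgroup G)) _ _ fun y => ?_
  rw [Equiv.inv_apply, MonoidHom.inv_apply, Subgroup.coe_inv, h.apply_inv, map_inv]

omit [Fintype (↥(P : Subgroup G) →* ℂˣ)] in
theorem Ctx.lin_ne_one {l : ↥(P : Subgroup G) →* ℂˣ} (hl : l ≠ 1) {y : ↥(P : Subgroup G)}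
    (hy : (y : G) ≠ 1) : l y ≠ 1 := by
  intro h1
  refine hl (MonoidHom.ext fun w => ?_)
  obtain ⟨k, rfl⟩ : w ∈ Submonoid.powers y :=
    mem_powers_of_prime_card h.card (fun e => hy (by rw [e]; rfl))
  rw [map_pow, h1, one_pow, MonoidHom.one_apply]

omit [Fintype (↥(P : Subgroup G) →* ℂˣ)] in
theorem Ctx.lin_pow_p (l : ↥(P : Subgroup G) →* ℂˣ) (y : ↥(P : Subgroup G)) :
    ((l y : ℂˣ) : ℂ) ^ p = 1 := by
  rw [← Units.val_pow_eq_pow_val, ← map_pow, show y ^ p = 1 from Subtype.ext (h.pow_p y), map_one,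
    Units.val_one]

omit [Fintype (↥(P : Subgroup G) →* ℂˣ)] in
theorem Ctx.lin_inv_ne {l : ↥(P : Subgroup G) →* ℂˣ} (hl : l ≠ 1) : l⁻¹ ≠ l := by
  intro e
  obtain ⟨y, hy⟩ := h.exists_nonOne
  have h1 : l y ^ 2 = 1 := by
    have := DFunLike.congr_fun e y
    rw [MonoidHom.inv_apply, inv_eq_iff_mul_eq_one] at this
    rw [pow_two]; exact this
  have h2 : l y ^ p = 1 := Units.ext (by
    rw [Units.val_pow_eq_pow_val, h.lin_pow_p, Units.val_one])
  refine h.lin_ne_one hl hy (orderOf_eq_one_iff.mp (Nat.eq_one_of_dvd_coprimes ?_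
    (orderOf_dvd_of_pow_eq_one h1) (orderOf_dvd_of_pow_eq_one h2)))
  exact Nat.coprime_two_left.mpr ((Fact.out : p.Prime).odd_of_ne_two (by have := h.five; omega))

theorem Ctx.orbP_eq {l : ↥(P : Subgroup G) →* ℂˣ} (hl : l ≠ 1) :
    orbP l = {l, l⁻¹} := by
  obtain ⟨u, hu, hu'⟩ := h.exists_outside
  refine (Finset.eq_of_subset_of_card_le ?_ ?_).symm
  · intro φ hφ
    rcases Finset.mem_insert.mp hφ with rfl | hφ
    · exact self_mem_orbP _
    · rw [Finset.mem_singleton] at hφ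
      refine mem_orbP.mpr ⟨⟨u, hu⟩, ?_⟩
      rw [hφ]
      refine MonoidHom.ext fun w => ?_
      rw [twP_apply, MonoidHom.inv_apply, ← map_inv]
      congr 1
      refine Subtype.ext ?_
      rw [coe_conjP, Subgroup.coe_inv]
      have h1 := h.inv (inv_mem hu) (fun hc => hu' (inv_inv u ▸ inv_mem hc)) w.2
      rwa [inv_inv] at h1
  · rw [h.frob.card_orbP hl, Finset.card_pair (h.lin_inv_ne hl).symm]

theorem Ctx.orbSum_eq {l : ↥(P : Subgroup G) →* ℂˣ} (hl : l ≠ 1) (y : ↥(P : Subgroup G)) :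
    orbSum l y = ((l y : ℂˣ) : ℂ) + conj ((l y : ℂˣ) : ℂ) := by
  classical
  rw [orbSum, h.orbP_eq hl, Finset.sum_pair (h.lin_inv_ne hl).symm,
    ← char_inv (isCharacter_linear l) y, MonoidHom.inv_apply, map_inv]

theorem Ctx.conj_orbSum {l : ↥(P : Subgroup G) →* ℂˣ} (hl : l ≠ 1) (y : ↥(P : Subgroup G)) :
    conj (orbSum l y) = orbSum l y := by
  rw [h.orbSum_eq hl, map_add, Complex.conj_conj, add_comm]

/-- The square of an orbit sum. -/
theorem Ctx.orbSum_mul_self {l : ↥(P : Subgroup G) →* ℂˣ} (hl : l ≠ 1) (y : ↥(P : Subgroup G)) :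
    orbSum l y * orbSum l y = 2 + orbSum l (y * y) := by
  rw [h.orbSum_eq hl, h.orbSum_eq hl, map_mul, Units.val_mul, map_mul]
  have h1 : ((l y : ℂˣ) : ℂ) * conj ((l y : ℂˣ) : ℂ) = 1 := by
    rw [← char_inv (isCharacter_linear l) y, map_inv, ← Units.val_mul, mul_inv_cancel, Units.val_one]
  linear_combination 2 * h1

theorem Ctx.mult_bound :
    ∑ l : ↥(P : Subgroup G) →* ℂˣ, lmult χ l ^ 2 ≤ p - 2 := by
  classical
  have hp : p.Prime := Fact.out
  set S := ∑ l : ↥(P : Subgroup G) →* ℂˣ, lmult χ l ^ 2 with hS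
  set F : G → ℂ := fun g => (χ : G → ℂ) g * conj ((χ : G → ℂ) g) with hF
  have hcl : IsClassFunction G F := fun g k => by
    simp only [hF, isClassFunction_character (irr_isCharacter χ.2) g k]
  have hsing := h.frob.sum_singular_const hcl fun y hy v hv => by
    obtain ⟨hz, e⟩ := h.apply_section χ hy v hv
    simp only [hF, e, map_mul]
    linear_combination ((χ : G → ℂ) y * conj ((χ : G → ℂ) y)) * cw_mul_conj χ hz
  rw [FrobSylow.sum_nonOne, h.sum_sq, OneMemClass.coe_one, ← hS, h.card] at hsing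
  set R : ℝ := ∑ g : G with ¬ p ∣ orderOf g, Complex.normSq ((χ : G → ℂ) g) with hR
  have hRpos : 0 < R := by
    refine Finset.sum_pos' (fun g _ => Complex.normSq_nonneg _)
      ⟨1, Finset.mem_filter.mpr ⟨Finset.mem_univ _, by simp [hp.ne_one]⟩, ?_⟩
    exact Complex.normSq_pos.mpr (irr_one_ne_zero χ.2)
  have hall : ∑ g : G, F g = (Nat.card G : ℂ) := by
    have h1 := irr_self χ.2
    rw [classInner, inv_mul_eq_one₀ (Nat.cast_ne_zero.mpr Nat.card_pos.ne')] at h1
    exact h1.symm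
  rw [← Finset.sum_filter_add_sum_filter_not Finset.univ (fun g : G => p ∣ orderOf g)] at hall
  have hreg : ∑ g : G with ¬ p ∣ orderOf g, F g = (R : ℂ) := by
    rw [hR, Complex.ofReal_sum]
    exact Finset.sum_congr rfl fun g _ => Complex.mul_conj _
  rw [hreg, ← eq_sub_iff_add_eq] at hall
  simp only [hF] at hsing hall
  rw [hall, char_one_eq_deg (irr_isCharacter χ.2), h.degree, map_natCast] at hsing
  have h2 : (p : ℝ) * 2 * ((Nat.card G : ℝ) - R) =
      (Nat.card G : ℝ) * ((p : ℝ) * S - ((p - 2 : ℕ) : ℝ) * ((p - 2 : ℕ) : ℝ)) := by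
    apply Complex.ofReal_injective
    push_cast
    push_cast at hsing
    exact hsing
  have hG : (0 : ℝ) < Nat.card G := by exact_mod_cast Nat.card_pos
  have hp0 : (0 : ℝ) < p := by exact_mod_cast hp.pos
  have h3 : (p : ℝ) * S < ((p - 2 : ℕ) : ℝ) * ((p - 2 : ℕ) : ℝ) + 2 * p := by
    nlinarith
  have h4 : p * S < (p - 2) * (p - 2) + 2 * p := by exact_mod_cast h3
  by_contra hlt
  obtain ⟨q, rfl⟩ : ∃ q, p = q + 6 := ⟨p - 6, by have := h.five; omega⟩
  have h5 : q + 5 ≤ S := by omega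
  have h6 := Nat.mul_le_mul_left (q + 6) h5
  rw [show q + 6 - 2 = q + 4 by omega] at h4
  nlinarith

/-- The missing pair. -/
theorem Ctx.exists_l₀ : ∃ l₀ : ↥(P : Subgroup G) →* ℂˣ, l₀ ≠ 1 ∧
    ∀ y : ↥(P : Subgroup G), (y : G) ≠ 1 → (χ : G → ℂ) y = -orbSum l₀ y := by
  classical
  have hsum := h.sum_lmult χ
  rw [h.degree] at hsum
  have hsq := h.mult_bound
  have hle : ∀ l : ↥(P : Subgroup G) →* ℂˣ, lmult χ l ≤ 1 := by
    intro l
    by_contra hlt
    have h1 : ∑ l : ↥(P : Subgroup G) →* ℂˣ, lmult χ l <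
        ∑ l : ↥(P : Subgroup G) →* ℂˣ, lmult χ l ^ 2 :=
      Finset.sum_lt_sum (fun a _ => Nat.le_self_pow two_ne_zero _)
        ⟨l, Finset.mem_univ l, by rw [pow_two]; nlinarith⟩
    omega
  set O := Finset.univ.filter fun l : ↥(P : Subgroup G) →* ℂˣ => lmult χ l = 0 with hO
  have hcard : O.card = 2 := by
    have h1 : ∑ l : ↥(P : Subgroup G) →* ℂˣ, lmult χ l + O.card = p := by
      rw [hO, Finset.card_filter, ← Finset.sum_add_distrib,
        Finset.sum_congr rfl (g := fun _ => 1) fun l _ => by have := hle l; split_ifs <;> omega,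
        Finset.sum_const, Finset.card_univ, smul_eq_mul, mul_one, ← Nat.card_eq_fintype_card,
        h.frob.finite_dual.2, h.card]
    have := h.five
    omega
  obtain ⟨a, b, hab, hOab⟩ := Finset.card_eq_two.mp hcard
  have hmem : ∀ l, lmult χ l = 0 ↔ l = a ∨ l = b := fun l => by
    have h1 : l ∈ O ↔ l ∈ ({a, b} : Finset _) := by rw [hOab]
    simpa [hO] using h1
  have hinv : ∀ l, (l = a ∨ l = b) → (l⁻¹ = a ∨ l⁻¹ = b) := fun l hl =>
    (hmem _).mp ((h.lmult_inv χ l).trans ((hmem _).mpr hl))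
  obtain ⟨ha1, hb⟩ : a ≠ 1 ∧ b = a⁻¹ := by
    rcases hinv a (Or.inl rfl) with e | e
    · have ha : a = 1 := by
        by_contra hne
        exact h.lin_inv_ne hne e
      exfalso
      rcases hinv b (Or.inr rfl) with f | f
      · refine hab (ha.trans (MonoidHom.ext fun y => ?_))
        have f' := DFunLike.congr_fun (f.trans ha) y
        rw [MonoidHom.inv_apply, MonoidHom.one_apply, inv_eq_one] at f'
        rw [MonoidHom.one_apply, f']
      · refine hab (ha.trans ?_)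
        by_contra hne
        exact h.lin_inv_ne (Ne.symm hne) f
    · refine ⟨fun ha => hab ?_, e.symm⟩
      rw [← e, ha]
      exact MonoidHom.ext fun y => by simp
  refine ⟨a, ha1, fun y hy => ?_⟩
  have h0 := h.frob.sum_dual_apply y
  rw [if_neg fun e => hy (by rw [e]; rfl), ← Finset.sum_add_sum_compl ({a, b} : Finset _)] at h0
  rw [orbSum, h.orbP_eq ha1, ← hb, h.expand, ← Finset.sum_add_sum_compl ({a, b} : Finset _),
    Finset.sum_eq_zero fun l hl => by
      rw [(hmem l).mpr (by simpa using hl), Nat.cast_zero, zero_mul],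
    zero_add, Finset.sum_congr rfl (s₂ := ({a, b} : Finset _)ᶜ) (g := fun l => ((l y : ℂˣ) : ℂ))
      fun l hl => by
        have h1 : lmult χ l = 1 := by
          refine le_antisymm (hle l) (Nat.one_le_iff_ne_zero.mpr fun e => ?_)
          rw [Finset.mem_compl] at hl
          exact hl (by simpa using (hmem l).mp e)
        rw [h1, Nat.cast_one, one_mul]]
  exact eq_neg_of_add_eq_zero_right h0

/-- The conjugates of `χ` indexed by the orbits. -/
structure Fam (χ : IrrCharacter G) {r : ℕ} (rep : Fin r → (↥(P : Subgroup G) →* ℂˣ))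
    (fam : Fin r → IrrCharacter G) : Prop where
  inj : Function.Injective fam
  reg : ∀ i, ∀ g : G, ¬ p ∣ orderOf g → (fam i : G → ℂ) g = (χ : G → ℂ) g
  val : ∀ i, ∀ y : ↥(P : Subgroup G), (y : G) ≠ 1 → (fam i : G → ℂ) y = -orbSum (rep i) y

theorem Ctx.exists_fam : ∃ (r : ℕ) (rep : Fin r → (↥(P : Subgroup G) →* ℂˣ))
    (idx : (↥(P : Subgroup G) →* ℂˣ) → Fin r) (fam : Fin r → IrrCharacter G) (i₀ : Fin r),
    r * 2 + 1 = p ∧ OrbitIndex 2 rep idx ∧ Fam χ rep fam ∧ fam i₀ = χ := by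
  classical
  have hp : p.Prime := Fact.out
  obtain ⟨r, rep, idx, hr0, hr, h1, h2, h3, h4⟩ := h.frob.exists_orbit_index
  have hI : OrbitIndex 2 rep idx := ⟨hr, h1, h2, h3, h4⟩
  obtain ⟨l₀, hl₀, hχ⟩ := h.exists_l₀
  obtain ⟨M, hM⟩ := exists_pModular hp
  let S : PConj.Setup G p :=
    { a := (Nat.card G).factorization p
      m := Nat.card G / p ^ (Nat.card G).factorization p
      cop := (hp.coprime_iff_not_dvd.2 (Nat.not_dvd_ordCompl hp Nat.card_pos.ne')).pow_left _
      card := (Nat.ordProj_mul_ordCompl_eq_self _ _).symm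
      ndvd := Nat.not_dvd_ordCompl hp Nat.card_pos.ne' }
  haveI := Fintype.ofFinite (Subgroup.centralizer ((P : Subgroup G) : Set G))
  obtain ⟨y0, hy0⟩ := h.exists_nonOne
  have hy0' : y0 ≠ 1 := fun e => hy0 (by rw [e]; rfl)
  have hprim : IsPrimitiveRoot ((l₀ y0 : ℂˣ) : ℂ) p := by
    refine IsPrimitiveRoot.iff_def _ _ |>.mpr ⟨h.lin_pow_p l₀ y0, fun k hk => ?_⟩
    rw [← Units.val_pow_eq_pow_val, Units.val_eq_one] at hk
    by_contra hkd
    have h5 : l₀ y0 ^ p = 1 := Units.ext (by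
      rw [Units.val_pow_eq_pow_val, h.lin_pow_p, Units.val_one])
    exact h.lin_ne_one hl₀ hy0 (orderOf_eq_one_iff.mp (Nat.eq_one_of_dvd_coprimes
      (hp.coprime_iff_not_dvd.mpr hkd).symm (orderOf_dvd_of_pow_eq_one hk)
      (orderOf_dvd_of_pow_eq_one h5)))
  have hex : ∀ i, ∃ u : S.U, ∀ y : ↥(P : Subgroup G), (y : G) ≠ 1 →
      (act S u χ : G → ℂ) y = -orbSum (rep i) y := by
    intro i
    haveI := NeZero.mk hp.ne_zero
    obtain ⟨j, hj, hj'⟩ := hprim.eq_pow_of_pow_eq_one (h.lin_pow_p (rep i) y0)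
    have hne : y0 ^ j ≠ 1 := fun e => h.lin_ne_one (hI.rep_ne i) hy0 (Units.ext (by
      rw [← hj', ← Units.val_pow_eq_pow_val, ← map_pow, e, map_one]))
    obtain ⟨u, hu⟩ := exists_exp (P := (P : Subgroup G)) S hM h.card hy0' hne
    refine ⟨u, fun y hy => ?_⟩
    obtain ⟨k, hk⟩ : y ∈ Submonoid.powers y0 := mem_powers_of_prime_card h.card hy0'
    have hval : ((l₀ (y ^ uexp S u) : ℂˣ) : ℂ) = ((rep i y : ℂˣ) : ℂ) := by
      rw [← hk, ← pow_mul, mul_comm, pow_mul, hu, ← pow_mul, map_pow, map_pow,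
        Units.val_pow_eq_pow_val, Units.val_pow_eq_pow_val, pow_mul, hj']
    have hne' : ((y ^ uexp S u : ↥(P : Subgroup G)) : G) ≠ 1 := fun e => by
      refine h.lin_ne_one (hI.rep_ne i) hy (Units.ext ?_)
      rw [← hval, show y ^ uexp S u = 1 from Subtype.ext e, map_one]
    rw [act_apply, ← SubmonoidClass.coe_pow, hχ _ hne', h.orbSum_eq hl₀, h.orbSum_eq (hI.rep_ne i),
      hval]
  choose u hu using hex
  let fam : Fin r → IrrCharacter G := fun i => if i = idx l₀ then χ else act S (u i) χ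
  have hv : ∀ i, ∀ y : ↥(P : Subgroup G), (y : G) ≠ 1 →
      (fam i : G → ℂ) y = -orbSum (rep i) y := by
    intro i y hy
    by_cases e : i = idx l₀
    · simp only [fam, if_pos e]
      rw [hχ y hy, e]
      have h5 := hI.mem l₀ hl₀
      simp only [orbSum, orbP_eq_of_mem h5]
    · simp only [fam, if_neg e]
      exact hu i y hy
  refine ⟨r, rep, idx, fam, idx l₀, hr.trans h.card, hI, ⟨fun i j e => ?_, fun i g hg => ?_, hv⟩,
    if_pos rfl⟩
  · by_contra hne
    have heq : ∀ y : ↥(P : Subgroup G), orbSum (rep i) y = orbSum (rep j) y := by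
      intro y
      by_cases hy : (y : G) = 1
      · rw [show y = 1 from Subtype.ext hy, h.frob.orbSum_one (hI.rep_ne i),
          h.frob.orbSum_one (hI.rep_ne j)]
      · have h5 := hv i y hy
        rw [e, hv j y hy] at h5
        exact (neg_injective h5).symm
    have h5 := h.frob.sum_orbSum_mul (rep i) (rep j)
    rw [h.frob.orbP_inter hI, if_neg hne, mul_zero,
      Finset.sum_congr rfl (g := fun y => orbSum (rep i) y * conj (orbSum (rep i) y))
        fun y _ => by rw [heq y],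
      h.frob.sum_orbSum_mul, h.frob.orbP_inter hI, if_pos rfl, h.card] at h5
    exact mul_ne_zero (Nat.cast_ne_zero.mpr hp.ne_zero) two_ne_zero h5
  · by_cases e : i = idx l₀
    · simp only [fam, if_pos e]
    · simp only [fam, if_neg e]
      exact act_regular S (u i) χ hg

variable {r : ℕ} {rep : Fin r → (↥(P : Subgroup G) →* ℂˣ)}
  {idx : (↥(P : Subgroup G) →* ℂˣ) → Fin r} {fam : Fin r → IrrCharacter G}

theorem Fam.apply_one (hf : Fam χ rep fam) (i : Fin r) :
    (fam i : G → ℂ) 1 = (χ : G → ℂ) 1 :=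
  hf.reg i 1 (by simp [(Fact.out : p.Prime).ne_one])

theorem Fam.cw_eq (hf : Fam χ rep fam) (i : Fin r) {z : G} (hz : z ∈ Subgroup.center G) :
    cw (fam i) z = cw χ z := by
  rw [cw, cw, hf.apply_one h, hf.reg i z (h.center_reg hz)]

theorem Fam.sum_val (hI : OrbitIndex 2 rep idx) (hf : Fam χ rep fam) {y : ↥(P : Subgroup G)}
    (hy : (y : G) ≠ 1) : ∑ i, (fam i : G → ℂ) y = 1 := by
  rw [Finset.sum_congr rfl fun i _ => hf.val i y hy, Finset.sum_neg_distrib,
    h.frob.sum_all_orbSum hI hy, neg_neg]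

theorem Fam.sum_norm (hI : OrbitIndex 2 rep idx) (hf : Fam χ rep fam) {y : ↥(P : Subgroup G)}
    (hy : (y : G) ≠ 1) :
    ∑ i, (fam i : G → ℂ) y * conj ((fam i : G → ℂ) y) = (p : ℂ) - 2 := by
  rw [Finset.sum_congr rfl fun i _ => by
    rw [h.conj_apply, hf.val i y hy, neg_mul_neg, h.orbSum_mul_self (hI.rep_ne i)],
    Finset.sum_add_distrib, Finset.sum_const, Finset.card_univ, Fintype.card_fin,
    h.frob.sum_all_orbSum hI]
  · have h1 : ((r * 2 + 1 : ℕ) : ℂ) = (p : ℂ) := by rw [hI.count, h.card]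
    push_cast at h1
    rw [nsmul_eq_mul]
    linear_combination h1
  · intro e
    rw [Subgroup.coe_mul, ← pow_two] at e
    have := Nat.le_of_dvd two_pos (h.orderOf_eq hy ▸ orderOf_dvd_of_pow_eq_one e)
    have := h.five
    omega

end Cfsg.Agent.Char.PSubTwo
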